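import Cfsg.Agent.Lib.Ito.Coord
import Cfsg.Agent.S3704

/-!
# The design of a subgroup of index equal to the degree, and Ito's theorem
-/

set_option autoImplicit false
set_option linter.style.haveILetI false
set_option linter.unusedSectionVars false

namespace Cfsg.Lib.Ito

open MulAction

variable {G Ω : Type*} [Group G] [Finite G] [MulAction G Ω] [Finite Ω]

/-- Burnside counting in the form used here. -/
theorem sum_fix_eq (K : Type*) [Group K] [Fintype K] (X : Type*) [MulAction K X] [Finite X] :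
    ∑ g : K, {x : X | g • x = x}.ncard = Nat.card (orbitRel.Quotient K X) * Nat.card K := by
  classical
  have : Fintype X := Fintype.ofFinite _
  have h := sum_card_fixedBy_eq_card_orbits_mul_card_group K X
  simp only [Nat.card_eq_fintype_card]
  refine (Finset.sum_congr rfl fun g _ => ?_).trans h
  rw [← Nat.card_eq_fintype_card, ← Nat.card_coe_set_eq]
  rfl

/-- The design given by an orbit of a subgroup of index equal to the degree. -/
theorem exists_des [FaithfulSMul G Ω] (h2 : IsMultiplyPretransitive G Ω 2) (H : Subgroup G)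
    (hidx : H.index = Nat.card Ω) (hnt : ¬ IsPretransitive H Ω) (hfix : ∀ a : Ω, ∃ h : H, h • a ≠ a)
    (a : Ω) :
    ∃ M : Des G Ω (G ⧸ H), ∀ x, M.I x (QuotientGroup.mk (1 : G)) ↔ x ∈ orbit ↥H a := by
  classical
  have : Fintype Ω := Fintype.ofFinite _
  have : Fintype (G ⧸ H) := Fintype.ofFinite _
  have : Fintype ↥H := Fintype.ofFinite _
  have : Nonempty Ω := ⟨a⟩
  have tt : ∀ x y x' y' : Ω, x ≠ y → x' ≠ y' → ∃ g : G, g • x = x' ∧ g • y = y' :=
    fun x y x' y' h h' => (is_two_pretransitive_iff.1 h2) h h'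
  set O : Set Ω := orbit ↥H a with hOdef
  have hO : ∀ h ∈ H, ∀ x ∈ O, h • x ∈ O := by
    rintro h hh _ ⟨k, rfl⟩
    exact ⟨⟨h, hh⟩ * k, mul_smul _ _ _⟩
  let I : Ω → G ⧸ H → Prop := fun x q => q.out⁻¹ • x ∈ O
  have smul_iff : ∀ (g : G) (x : Ω) (q : G ⧸ H), I (g • x) (g • q) ↔ I x q := by
    intro g x q
    induction q using QuotientGroup.induction_on with
    | H c =>
      have h1 : g • (QuotientGroup.mk c : G ⧸ H) = QuotientGroup.mk (g * c) := rfl
      simp only [I, h1, Cfsg.Lib.Recog.TwoOrbits.mem_iff hO]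
      rw [smul_smul, show (g * c)⁻¹ * g = c⁻¹ by group]
  have hI1 : ∀ x, I x (QuotientGroup.mk (1 : G)) ↔ x ∈ O := fun x => by
    change (QuotientGroup.mk (1 : G) : G ⧸ H).out⁻¹ • x ∈ O ↔ _
    rw [Cfsg.Lib.Recog.TwoOrbits.mem_iff hO, inv_one, one_smul]
  set k := O.ncard with hk
  have bl : ∀ q, {x | I x q}.ncard = k := fun q => by
    have : {x | I x q} = (q.out • ·) '' O := by
      ext x
      exact ⟨fun h => ⟨_, h, smul_inv_smul _ x⟩, by rintro ⟨y, hy, rfl⟩; simpa [I] using hy⟩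
    rw [this, Set.ncard_image_of_injective _ (MulAction.injective _)]
  have hcard : Nat.card (G ⧸ H) = Nat.card Ω := hidx
  have htrans : ∀ x y : Ω, ∃ g : G, g • x = y := fun x y => by
    by_cases h : x = y
    · exact ⟨1, by rw [one_smul, h]⟩
    · obtain ⟨g, hg, -⟩ := tt x y y x h (Ne.symm h)
      exact ⟨g, hg⟩
  have ptc : ∀ x y, {q | I x q}.ncard ≤ {q | I y q}.ncard := fun x y => by
    obtain ⟨g, hg⟩ := htrans x y
    refine Set.ncard_le_ncard_of_injOn (g • ·) (fun q hq => ?_) (fun p _ q _ h => smul_left_cancel g h)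
    rw [Set.mem_setOf_eq, ← hg, smul_iff]
    exact hq
  have pt : ∀ x, {q | I x q}.ncard = k := fun x => by
    have h := count (fun (y : Ω) (q : G ⧸ H) => I y q)
    rw [Finset.sum_congr rfl fun y _ => le_antisymm (ptc y x) (ptc x y),
      Finset.sum_congr rfl fun q _ => bl q, Finset.sum_const, Finset.sum_const, smul_eq_mul, smul_eq_mul,
      Finset.card_univ, Finset.card_univ, ← Nat.card_eq_fintype_card, ← Nat.card_eq_fintype_card, hcard] at h
    exact Nat.eq_of_mul_eq_mul_left Nat.card_pos h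
  obtain ⟨b, hb⟩ : ∃ b, b ∉ O := by
    by_contra h
    push Not at h
    refine hnt ⟨fun x y => ?_⟩
    exact mem_orbit_iff.1 ((orbit_eq_iff.2 (h x)).symm ▸ h y)
  have hab : a ≠ b := fun e => hb (e ▸ mem_orbit_self a)
  have hsize : ∀ z : Ω, 1 < (orbit ↥H z).ncard := fun z => by
    obtain ⟨h, hh⟩ := hfix z
    exact (Set.one_lt_ncard (Set.toFinite _)).2 ⟨_, mem_orbit z h, z, mem_orbit_self z, hh⟩
  have htwo := Cfsg.Agent.S3704.result h2 H hidx hnt hfix
  have hcompl : ∀ x, x ∉ O → x ∈ orbit ↥H b := by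
    intro x hx
    have : Fintype (orbitRel.Quotient H Ω) := Fintype.ofFinite _
    rw [Nat.card_eq_fintype_card] at htwo
    by_contra hxb
    have h3 : 2 < Fintype.card (orbitRel.Quotient H Ω) := Fintype.two_lt_card_iff.2
      ⟨Quotient.mk'' a, Quotient.mk'' b, Quotient.mk'' x,
        fun e => hb (orbit_eq_iff.1 (orbit_eq_iff.2 (orbitRel_apply.1 (Quotient.eq''.1 e))).symm),
        fun e => hx (orbit_eq_iff.1 (orbit_eq_iff.2 (orbitRel_apply.1 (Quotient.eq''.1 e))).symm),
        fun e => hxb (orbit_eq_iff.1 (orbit_eq_iff.2 (orbitRel_apply.1 (Quotient.eq''.1 e))).symm)⟩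
    omega
  set lam := {q | I a q ∧ I b q}.ncard with hlam
  have pt2 : ∀ x y, x ≠ y → {q | I x q ∧ I y q}.ncard = lam := fun x y hxy => by
    obtain ⟨g, hg1, hg2⟩ := tt a b x y hab hxy
    have : {q | I x q ∧ I y q} = (g • ·) '' {q | I a q ∧ I b q} := by
      ext q
      refine ⟨fun hq => ⟨g⁻¹ • q, ?_, smul_inv_smul g q⟩, ?_⟩
      · rw [Set.mem_setOf_eq, ← smul_iff g a, ← smul_iff g b, smul_inv_smul, hg1, hg2]
        exact hq
      · rintro ⟨p, hp, rfl⟩
        rw [Set.mem_setOf_eq, ← hg1, ← hg2, smul_iff, smul_iff]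
        exact hp
    rw [this, Set.ncard_image_of_injective _ (MulAction.injective _)]
  have hk2 : 2 ≤ k := hsize a
  have hkv : k + 1 < Nat.card Ω := by
    have h := Set.ncard_union_eq (s := O) (t := orbit ↥H b) (by
      rw [Set.disjoint_left]
      exact fun x h1 h2 => hb (orbit_eq_iff.1 ((orbit_eq_iff.2 h2).symm.trans (orbit_eq_iff.2 h1))))
      (Set.toFinite _) (Set.toFinite _)
    have h' := Set.ncard_le_card (O ∪ orbit ↥H b)
    have := hsize b
    omega
  have fl : lam * (Nat.card Ω - 1) = k * (k - 1) := by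
    have h := count (fun (y : Ω) (q : G ⧸ H) => y ≠ a ∧ I y q ∧ I a q)
    rw [sum_two (fun y => y ≠ a) _ lam 0 (fun y hy => ?_) (fun y hy => ?_),
      sum_two (fun q => I a q) _ (k - 1) 0 (fun q hq => ?_) (fun q hq => ?_), pt a] at h
    · have hc : {y : Ω | y ≠ a}.ncard = Nat.card Ω - 1 := by
        have : {y : Ω | y ≠ a} = {a}ᶜ := rfl
        rw [this, Set.ncard_compl, Set.ncard_singleton]
      rw [hc] at h
      linarith
    · have : {y : Ω | y ≠ a ∧ I y q ∧ I a q} = {y | I y q} \ {a} := by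
        ext y; simp [hq, and_comm]
      rw [this, Set.ncard_diff_singleton_of_mem (by exact hq), bl q]
    · simp [hq]
    · rw [← pt2 y a hy]
      congr 1
      ext q; simp [hy]
    · simp [hy]
  have lam_pos : 0 < lam := by
    rcases Nat.eq_zero_or_pos lam with h | h
    · rw [h, zero_mul] at fl
      have : 0 < k * (k - 1) := Nat.mul_pos (by omega) (by omega)
      omega
    · exact h
  have lam_lt : lam < k := by
    by_contra h
    have h1 : k * (Nat.card Ω - 1) ≤ lam * (Nat.card Ω - 1) := Nat.mul_le_mul_right _ (by omega)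
    rw [fl] at h1
    have := Nat.le_of_mul_le_mul_left h1 (by omega)
    omega
  -- two blocks meet in `lam` points
  have bl2 : ∀ X Y : G ⧸ H, X ≠ Y → {x | I x X ∧ I x Y}.ncard = lam := by
    intro X Y hXY
    set c : G ⧸ H → ℕ := fun Z => {x | I x X ∧ I x Z}.ncard with hc
    have e1 : ∑ Z, c Z = k * k := by
      simp only [hc]
      rw [← count fun (x : Ω) (Z : G ⧸ H) => I x X ∧ I x Z,
        sum_two (fun x => I x X) _ k 0 (fun x hx => by simp only [hx, true_and]; exact pt x)
          (fun x hx => by simp [hx]), bl X]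
      simp
    have e2 : ∑ Z, c Z * c Z = k * k + k * (k - 1) * lam := by
      have h : ∀ Z, c Z * c Z = {p : Ω × Ω | I p.1 X ∧ I p.2 X ∧ I p.1 Z ∧ I p.2 Z}.ncard := fun Z => by
        rw [← Set.ncard_prod]
        congr 1
        ext p
        simp only [Set.mem_prod, Set.mem_setOf_eq]
        tauto
      simp only [h]
      rw [← count fun (p : Ω × Ω) (Z : G ⧸ H) => I p.1 X ∧ I p.2 X ∧ I p.1 Z ∧ I p.2 Z,
        Fintype.sum_prod_type,
        sum_two (fun x => I x X) _ (k + (k - 1) * lam) 0 (fun x hx => ?_) (fun x hx => by simp [hx]), bl X]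
      · rw [Nat.mul_add, Nat.mul_zero, Nat.add_zero, Nat.mul_assoc]
      rw [← Finset.add_sum_erase _ _ (Finset.mem_univ x)]
      have hx1 : {Z | I x X ∧ I x X ∧ I x Z ∧ I x Z}.ncard = k := by
        rw [← pt x]; congr 1; ext Z; simp [hx]
      have hsum : ∑ y ∈ Finset.univ.erase x, {Z | I x X ∧ I y X ∧ I x Z ∧ I y Z}.ncard = (k - 1) * lam := by
        rw [← Finset.sum_filter_add_sum_filter_not (Finset.univ.erase x) (fun y => I y X),
          Finset.sum_congr rfl (g := fun _ => lam) (fun y hy => ?_),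
          Finset.sum_eq_zero (s := (Finset.univ.erase x).filter fun y => ¬ I y X) (fun y hy => ?_),
          Finset.sum_const, smul_eq_mul, add_zero]
        · congr 1
          rw [← bl X, ← Set.ncard_diff_singleton_of_mem (show x ∈ {z | I z X} from hx),
            Set.ncard_eq_toFinset_card']
          congr 1
          ext y
          simp [and_comm]
        · simp [(Finset.mem_filter.1 hy).2]
        · obtain ⟨h1, h2⟩ := Finset.mem_filter.1 hy
          rw [← pt2 x y (Ne.symm (Finset.mem_erase.1 h1).1)]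
          congr 1; ext Z; simp [hx, h2]
      rw [hsum]
      exact congrArg (· + _) hx1
    have hz : ∑ Z ∈ Finset.univ.erase X, ((c Z : ℤ) - lam) ^ 2 = 0 := by
      have cX : c X = k := by simp only [hc, and_self]; exact bl X
      have f1 : (∑ Z ∈ Finset.univ.erase X, (c Z : ℤ)) = k * k - k := by
        have h := Finset.add_sum_erase Finset.univ (fun Z => (c Z : ℤ)) (Finset.mem_univ X)
        have h0 : (∑ Z, (c Z : ℤ)) = ((k * k : ℕ) : ℤ) := by rw [← Nat.cast_sum, e1]
        simp only [h0, cX] at h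
        push_cast at h ⊢
        linarith
      have f2 : (∑ Z ∈ Finset.univ.erase X, (c Z : ℤ) * c Z) = k * (k - 1) * lam := by
        have h := Finset.add_sum_erase Finset.univ (fun Z => ((c Z * c Z : ℕ) : ℤ)) (Finset.mem_univ X)
        have h0 : (∑ Z, ((c Z * c Z : ℕ) : ℤ)) = ((k * k + k * (k - 1) * lam : ℕ) : ℤ) := by
          rw [← Nat.cast_sum, e2]
        simp only [h0, cX] at h
        push_cast [Nat.cast_sub (show 1 ≤ k by omega)] at h
        linarith
      have f3 : ((Finset.univ.erase X).card : ℤ) = (Nat.card Ω : ℤ) - 1 := by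
        rw [Finset.card_erase_of_mem (Finset.mem_univ X), Finset.card_univ, ← Nat.card_eq_fintype_card, hcard,
          Nat.cast_sub (by omega), Nat.cast_one]
      have f4 : (lam : ℤ) * ((Nat.card Ω : ℤ) - 1) = k * (k - 1) := by
        have h := congrArg (fun n : ℕ => (n : ℤ)) fl
        push_cast [Nat.cast_sub (show 1 ≤ k by omega), Nat.cast_sub (show 1 ≤ Nat.card Ω by omega)] at h
        exact h
      have expand : ∀ Z, ((c Z : ℤ) - lam) ^ 2 = (c Z : ℤ) * c Z - 2 * lam * c Z + lam * lam := fun Z => by ring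
      simp only [expand, Finset.sum_add_distrib, Finset.sum_sub_distrib, ← Finset.mul_sum, Finset.sum_const,
        nsmul_eq_mul]
      rw [f1, f2, f3]
      linear_combination (lam : ℤ) * f4
    have := (Finset.sum_eq_zero_iff_of_nonneg fun Z _ => sq_nonneg _).1 hz Y
      (Finset.mem_erase.2 ⟨Ne.symm hXY, Finset.mem_univ _⟩)
    have := pow_eq_zero_iff (n := 2) (by norm_num) |>.1 this
    change c Y = lam
    omega
  -- an element of `H` fixes as many cosets as points
  have hfixeq : ∀ g : G, {x : Ω | g • x = x}.ncard = {q : G ⧸ H | g • q = q}.ncard := by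
    intro g
    have h := count (fun (x : Ω) (X : G ⧸ H) => I x X ∧ I (g • x) X)
    rw [sum_two (fun x => g • x = x) _ k lam (fun x hx => by simp only [hx, and_self]; exact pt x)
      (fun x hx => pt2 x _ (Ne.symm hx)),
      sum_two (fun X => g • X = X) _ k lam (fun X hX => ?_) (fun X hX => ?_)] at h
    · have e1 : {x : Ω | ¬ g • x = x}.ncard = Nat.card Ω - {x : Ω | g • x = x}.ncard := Set.ncard_compl _
      have e2 : {q : G ⧸ H | ¬ g • q = q}.ncard = Nat.card (G ⧸ H) - {q : G ⧸ H | g • q = q}.ncard :=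
        Set.ncard_compl _
      rw [e1, e2, hcard] at h
      have b1 : {x : Ω | g • x = x}.ncard ≤ Nat.card Ω := Set.ncard_le_card _
      have b2 : {q : G ⧸ H | g • q = q}.ncard ≤ Nat.card Ω := hcard ▸ Set.ncard_le_card _
      zify [b1, b2] at h
      have h' : (({x : Ω | g • x = x}.ncard : ℤ) - {q : G ⧸ H | g • q = q}.ncard) * ((k : ℤ) - lam) = 0 := by
        linear_combination h
      have := (mul_eq_zero.1 h').resolve_right (by omega)
      omega
    · rw [← bl X]
      congr 1; ext x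
      have : I (g • x) X ↔ I x X := by rw [← smul_iff g x X, hX]
      simp [this]
    · have hne : X ≠ g⁻¹ • X := fun e => hX (by rw [eq_inv_smul_iff] at e; exact e)
      rw [← bl2 X _ hne]
      congr 1; ext x
      have : I (g • x) X ↔ I x (g⁻¹ • X) := by rw [← smul_iff g x (g⁻¹ • X), smul_inv_smul]
      simp [this]
  -- `H` has one orbit on the other cosets
  have horb : ∀ Y Y' : G ⧸ H, Y ≠ QuotientGroup.mk (1 : G) → Y' ≠ QuotientGroup.mk (1 : G) →
      Y' ∈ orbit ↥H Y := by
    intro Y Y' hY hY'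
    have h1 := sum_fix_eq ↥H Ω
    have h3 := sum_fix_eq ↥H (G ⧸ H)
    rw [show (∑ g : ↥H, {x : Ω | g • x = x}.ncard) = ∑ g : ↥H, {q : G ⧸ H | g • q = q}.ncard from
      Finset.sum_congr rfl fun g _ => hfixeq g, h3, htwo] at h1
    have hq : Nat.card (orbitRel.Quotient H (G ⧸ H)) = 2 := Nat.eq_of_mul_eq_mul_right Nat.card_pos h1
    have : Fintype (orbitRel.Quotient H (G ⧸ H)) := Fintype.ofFinite _
    rw [Nat.card_eq_fintype_card] at hq
    have hstab : ∀ (h : ↥H), h • (QuotientGroup.mk (1 : G) : G ⧸ H) = QuotientGroup.mk (1 : G) := fun h => by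
      change (h : G) • (QuotientGroup.mk (1 : G) : G ⧸ H) = _
      rw [MulAction.Quotient.smul_mk, smul_eq_mul, mul_one, QuotientGroup.eq, mul_one]
      exact inv_mem h.2
    by_contra hcon
    have h4 : 2 < Fintype.card (orbitRel.Quotient H (G ⧸ H)) := Fintype.two_lt_card_iff.2
      ⟨Quotient.mk'' (QuotientGroup.mk (1 : G)), Quotient.mk'' Y, Quotient.mk'' Y', ?_, ?_, ?_⟩
    · omega
    · intro e
      obtain ⟨h, hh⟩ := orbitRel_apply.1 (Quotient.eq''.1 e.symm)
      exact hY (hh.symm.trans (hstab h))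
    · intro e
      obtain ⟨h, hh⟩ := orbitRel_apply.1 (Quotient.eq''.1 e.symm)
      exact hY' (hh.symm.trans (hstab h))
    · intro e
      exact hcon (orbitRel_apply.1 (Quotient.eq''.1 e.symm))
  have gtrans : ∀ X : G ⧸ H, ∃ g : G, g • (QuotientGroup.mk (1 : G) : G ⧸ H) = X := fun X =>
    exists_smul_eq G _ X
  have H_of_fix : ∀ h : ↥H, (h : G) • (QuotientGroup.mk (1 : G) : G ⧸ H) = QuotientGroup.mk (1 : G) := fun h => by
    rw [MulAction.Quotient.smul_mk, smul_eq_mul, mul_one, QuotientGroup.eq, mul_one]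
    exact inv_mem h.2
  refine ⟨{ I := I, k := k, lam := lam, smul_iff := smul_iff, card_eq := hcard, pt := pt, bl := bl,
            pt2 := pt2, bl2 := bl2, tt := tt, tt' := ?_, flag := ?_, anti := ?_,
            lam_pos := lam_pos, lam_lt := lam_lt, k_lt := hkv }, hI1⟩
  · intro X Y X' Y' hXY hXY'
    obtain ⟨g, hg⟩ := gtrans X
    obtain ⟨g', hg'⟩ := gtrans X'
    have h1 : g⁻¹ • Y ≠ QuotientGroup.mk (1 : G) := fun e => hXY (by
      rw [inv_smul_eq_iff, hg] at e; exact e.symm)
    have h2 : g'⁻¹ • Y' ≠ QuotientGroup.mk (1 : G) := fun e => hXY' (by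
      rw [inv_smul_eq_iff, hg'] at e; exact e.symm)
    obtain ⟨h, hh⟩ := horb _ _ h1 h2
    change (h : G) • g⁻¹ • Y = g'⁻¹ • Y' at hh
    refine ⟨g' * h * g⁻¹, ?_, ?_⟩
    · rw [mul_smul, mul_smul, (inv_smul_eq_iff.2 hg.symm), H_of_fix, hg']
    · rw [mul_smul, mul_smul, hh, smul_inv_smul]
  · intro x X y Y hx hy
    obtain ⟨g, rfl⟩ := gtrans X
    obtain ⟨g', rfl⟩ := gtrans Y
    rw [← smul_inv_smul g x, smul_iff, hI1] at hx
    rw [← smul_inv_smul g' y, smul_iff, hI1] at hy
    obtain ⟨h, hh⟩ : g'⁻¹ • y ∈ orbit ↥H (g⁻¹ • x) := by rw [orbit_eq_iff.2 hx]; exact hy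
    change (h : G) • g⁻¹ • x = g'⁻¹ • y at hh
    refine ⟨g' * h * g⁻¹, ?_, ?_⟩
    · rw [mul_smul, mul_smul, hh, smul_inv_smul]
    · rw [mul_smul, mul_smul, inv_smul_smul, H_of_fix]
  · intro x X y Y hx hy
    obtain ⟨g, rfl⟩ := gtrans X
    obtain ⟨g', rfl⟩ := gtrans Y
    rw [← smul_inv_smul g x, smul_iff, hI1] at hx
    rw [← smul_inv_smul g' y, smul_iff, hI1] at hy
    obtain ⟨h, hh⟩ : g'⁻¹ • y ∈ orbit ↥H (g⁻¹ • x) := by
      rw [orbit_eq_iff.2 (hcompl _ hx)]; exact hcompl _ hy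
    change (h : G) • g⁻¹ • x = g'⁻¹ • y at hh
    refine ⟨g' * h * g⁻¹, ?_, ?_⟩
    · rw [mul_smul, mul_smul, hh, smul_inv_smul]
    · rw [mul_smul, mul_smul, inv_smul_smul, H_of_fix]

/-- **Ito's theorem.** A two-transitive group with a subgroup of index equal to the degree which is not
faithful on one of its two orbits has a projective special linear socle. -/
theorem ito [FaithfulSMul G Ω] (h2 : IsMultiplyPretransitive G Ω 2) (H : Subgroup G)
    (hidx : H.index = Nat.card Ω) (hnt : ¬ IsPretransitive H Ω) (hfix : ∀ a : Ω, ∃ h : H, h • a ≠ a)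
    (hunf : ∃ a : Ω, ∃ h : H, h ≠ 1 ∧ ∀ b ∈ orbit H a, h • b = b) :
    ∃ (m : ℕ) (F : Type) (_ : Field F) (_ : Fintype F), 2 ≤ m ∧
      Nat.card Ω = (Fintype.card F ^ (m + 1) - 1) / (Fintype.card F - 1) ∧
      ∃ N : Subgroup G, N.Normal ∧ Nonempty (N ≃* Matrix.ProjectiveSpecialLinearGroup (Fin (m + 1)) F) ∧
        Subgroup.centralizer (N : Set G) = ⊥ := by
  obtain ⟨a, h, h1, hh⟩ := hunf
  obtain ⟨M, hM⟩ := exists_des h2 H hidx hnt hfix a
  have hK : ∃ X, M.K X ≠ ⊥ := by
    refine ⟨QuotientGroup.mk (1 : G), fun e => h1 (Subtype.ext ?_)⟩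
    have : (h : G) ∈ M.K (QuotientGroup.mk (1 : G)) := fun x hx => hh x ((hM x).1 hx)
    rwa [e, Subgroup.mem_bot] at this
  obtain ⟨m, F, iF, fF, φ, hm, hφ⟩ := M.exists_coord hK
  refine ⟨m, F, iF, fF, hm, ?_, M.exists_psl hK hφ (by omega)⟩
  have hq : 2 ≤ Fintype.card F := Fintype.one_lt_card
  rw [Nat.card_congr φ, Projectivization.card_of_finrank F (Fin (m + 1) → F)
    (by rw [Module.finrank_pi, Fintype.card_fin] : Module.finrank F (Fin (m + 1) → F) = m + 1),
    Nat.card_eq_fintype_card, Nat.geomSum_eq hq]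

end Cfsg.Lib.Ito
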