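import Cfsg.Agent.Lib.Ito.Design
import Cfsg.Agent.S0035

/-!
# Elations: the semiregular part of the pointwise block stabiliser and centres

Every element of the semiregular part fixes exactly the blocks through one point of its axis.
-/

set_option autoImplicit false
set_option linter.style.haveILetI false
set_option linter.unusedSectionVars false

namespace Cfsg.Lib.Ito

open MulAction Pointwise

/-- A set split by a function into fibres of size `r`. -/
theorem dvd_of_fibres {α β : Type*} [Finite α] (f : α → β) (S : Set α) (r : ℕ)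
    (h : ∀ a ∈ S, {b | b ∈ S ∧ f b = f a}.ncard = r) : r ∣ S.ncard := by
  classical
  have : Fintype α := Fintype.ofFinite _
  rw [Set.ncard_eq_toFinset_card' S, Finset.card_eq_sum_card_image f S.toFinset]
  refine Finset.dvd_sum fun b hb => ?_
  obtain ⟨a, ha, rfl⟩ := Finset.mem_image.1 hb
  rw [← h a (Set.mem_toFinset.1 ha), Set.ncard_eq_toFinset_card']
  refine dvd_of_eq (congrArg Finset.card ?_)
  ext x
  simp

namespace Des

variable {G Ω Λ : Type*} [Group G] [MulAction G Ω] [MulAction G Λ]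
variable [Finite G] [Finite Ω] [Finite Λ] [FaithfulSMul G Ω] (M : Des G Ω Λ)

theorem K_conj (h : G) {g : G} {X : Λ} (hg : g ∈ M.K X) : h * g * h⁻¹ ∈ M.K (h • X) := fun x hx => by
  rw [mul_smul, mul_smul, hg _ (by rwa [M.inv_iff, inv_inv]), smul_inv_smul]

theorem K_ne (hK : ∃ X, M.K X ≠ ⊥) (X : Λ) : M.K X ≠ ⊥ := by
  obtain ⟨Y, hY⟩ := hK
  obtain ⟨⟨g, hg⟩, hg1⟩ := Subgroup.ne_bot_iff_exists_ne_one.1 hY
  obtain ⟨x, hx⟩ : ∃ x, M.I x X := by
    by_contra h
    push Not at h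
    have := M.bl X
    rw [show {x | M.I x X} = ∅ from Set.eq_empty_of_forall_notMem h, Set.ncard_empty] at this
    have := M.lam_lt
    omega
  obtain ⟨y, hy⟩ : ∃ y, M.I y Y := by
    by_contra h
    push Not at h
    have := M.bl Y
    rw [show {x | M.I x Y} = ∅ from Set.eq_empty_of_forall_notMem h, Set.ncard_empty] at this
    have := M.lam_lt
    omega
  obtain ⟨h, -, hX⟩ := M.flag y Y x X hy hx
  intro hbot
  have h2 := M.K_conj h hg
  rw [hX, hbot, Subgroup.mem_bot, conj_eq_one_iff] at h2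
  exact hg1 (Subtype.ext h2)

theorem compl_card (X : Λ) : {x | ¬ M.I x X}.ncard = Nat.card Ω - M.k := by
  rw [← M.bl X]
  exact Set.ncard_compl _

/-- The elements of `K X` without fixed points off `X`. -/
def TS (X : Λ) : Set G := {g | g ∈ M.K X ∧ (g = 1 ∨ ∀ z, g • z = z → M.I z X)}

/-- If the pointwise stabiliser has a fixed point off the axis it is transitive there. -/
theorem K_transitive {X : Λ} (hfix : ∀ z, ¬ M.I z X → ∃ g ∈ M.K X, g ≠ 1 ∧ g • z = z) {z z' : Ω}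
    (hz : ¬ M.I z X) (hz' : ¬ M.I z' X) : z' ∈ orbit ↥(M.K X) z := by
  classical
  by_contra hne
  have : Fintype Ω := Fintype.ofFinite _
  have : Fintype ↥(M.K X) := Fintype.ofFinite _
  have hoff : ∀ z, ¬ M.I z X → ∀ w ∈ orbit ↥(M.K X) z, ¬ M.I w X := by
    rintro z hz _ ⟨g, rfl⟩ hw
    refine hz ?_
    change M.I ((g : G) • z) X at hw
    have h := g.2 _ hw
    rw [smul_left_cancel_iff] at h
    rwa [h] at hw
  have key : ∀ z, ¬ M.I z X → ∑ g : ↥(M.K X), {w | g ≠ 1 ∧ w ∈ orbit ↥(M.K X) z ∧ g • w = w}.ncard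
      + (orbit ↥(M.K X) z).ncard = Nat.card ↥(M.K X) ∧ 2 * (orbit ↥(M.K X) z).ncard ≤ Nat.card ↥(M.K X) := by
    intro z hz
    have hsize : ∀ w ∈ orbit ↥(M.K X) z,
        (orbit ↥(M.K X) z).ncard * Nat.card (stabilizer ↥(M.K X) w) = Nat.card ↥(M.K X) := by
      intro w hw
      rw [← orbit_eq_iff.2 hw, ← index_stabilizer, Subgroup.index_mul_card]
    constructor
    · rw [count fun (g : ↥(M.K X)) (w : Ω) => g ≠ 1 ∧ w ∈ orbit ↥(M.K X) z ∧ g • w = w,
        sum_two (fun w => w ∈ orbit ↥(M.K X) z) _ (Nat.card (stabilizer ↥(M.K X) z) - 1) 0]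
      · have h1 := hsize z (mem_orbit_self z)
        have hpos : 0 < Nat.card (stabilizer ↥(M.K X) z) := Nat.card_pos
        change (orbit ↥(M.K X) z).ncard * _ + _ + _ = _
        rw [Nat.mul_sub, Nat.mul_one, mul_zero, add_zero, h1]
        have : (orbit ↥(M.K X) z).ncard ≤ Nat.card ↥(M.K X) := by
          rw [← h1]; exact Nat.le_mul_of_pos_right _ hpos
        omega
      · intro w hw
        have h1 := hsize w hw
        have h2 := hsize z (mem_orbit_self z)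
        have hpos : 0 < (orbit ↥(M.K X) z).ncard := (Set.ncard_pos (Set.toFinite _)).2 ⟨z, mem_orbit_self z⟩
        rw [← Nat.eq_of_mul_eq_mul_left hpos (h1.trans h2.symm)]
        have he : {g : ↥(M.K X) | g ≠ 1 ∧ w ∈ orbit ↥(M.K X) z ∧ g • w = w} =
            (stabilizer ↥(M.K X) w : Set ↥(M.K X)) \ {1} := by
          ext g; simp [hw, mem_stabilizer_iff, and_comm]
        rw [he, Set.ncard_diff_singleton_of_mem (by simp), ← Nat.card_coe_set_eq]
        rfl
      · intro w hw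
        simp [hw]
    · obtain ⟨g, hg, hg1, hgz⟩ := hfix z hz
      have h2 : 2 ≤ Nat.card (stabilizer ↥(M.K X) z) := by
        have : Nontrivial (stabilizer ↥(M.K X) z) := ⟨⟨⟨g, hg⟩, hgz⟩, 1, fun e => hg1 (by
          have := congrArg (fun u : stabilizer ↥(M.K X) z => ((u : ↥(M.K X)) : G)) e
          simpa using this)⟩
        exact Finite.one_lt_card
      calc 2 * (orbit ↥(M.K X) z).ncard ≤ Nat.card (stabilizer ↥(M.K X) z) * (orbit ↥(M.K X) z).ncard :=
            Nat.mul_le_mul_right _ h2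
        _ = Nat.card ↥(M.K X) := by rw [mul_comm]; exact hsize z (mem_orbit_self z)
  obtain ⟨e1, l1⟩ := key z hz
  obtain ⟨e2, l2⟩ := key z' hz'
  have hsum : ∑ g : ↥(M.K X), {w | g ≠ 1 ∧ w ∈ orbit ↥(M.K X) z ∧ g • w = w}.ncard +
      ∑ g : ↥(M.K X), {w | g ≠ 1 ∧ w ∈ orbit ↥(M.K X) z' ∧ g • w = w}.ncard <
      Nat.card ↥(M.K X) := by
    rw [← Finset.sum_add_distrib]
    calc _ < ∑ g : ↥(M.K X), 1 := ?_
      _ = Nat.card ↥(M.K X) := by simp
    refine Finset.sum_lt_sum (fun g _ => ?_) ⟨1, Finset.mem_univ _, by simp⟩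
    rw [← Set.ncard_union_eq ?_ (Set.toFinite _) (Set.toFinite _)]
    · refine (Set.ncard_le_one (Set.toFinite _)).2 fun a ha b hb => ?_
      have h1 : (g : G) ≠ 1 ∧ (g : G) • a = a ∧ ¬ M.I a X := by
        rcases ha with ⟨h1, h2, h3⟩ | ⟨h1, h2, h3⟩
        · exact ⟨fun e => h1 (Subtype.ext e), h3, hoff z hz a h2⟩
        · exact ⟨fun e => h1 (Subtype.ext e), h3, hoff z' hz' a h2⟩
      have h1' : (g : G) • b = b ∧ ¬ M.I b X := by
        rcases hb with ⟨-, h2, h3⟩ | ⟨-, h2, h3⟩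
        · exact ⟨h3, hoff z hz b h2⟩
        · exact ⟨h3, hoff z' hz' b h2⟩
      exact M.fixed_unique g.2 h1.1 h1.2.1 h1'.1 h1.2.2 h1'.2
    · rw [Set.disjoint_left]
      rintro w ⟨-, h1, -⟩ ⟨-, h2, -⟩
      exact hne (orbit_eq_iff.1 ((orbit_eq_iff.2 h2).symm.trans (orbit_eq_iff.2 h1)))
  omega

/-- The semiregular elements form a nontrivial subgroup. -/
theorem exists_T (hK : ∃ X, M.K X ≠ ⊥) (X : Λ) : ∃ T : Subgroup G, (T : Set G) = M.TS X ∧ T ≠ ⊥ := by
  classical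
  by_cases hf : ∀ g ∈ M.K X, g ≠ 1 → ∀ z, g • z = z → M.I z X
  · refine ⟨M.K X, ?_, M.K_ne hK X⟩
    ext g
    exact ⟨fun hg => ⟨hg, (em (g = 1)).imp id fun h => hf g hg h⟩, fun hg => hg.1⟩
  push Not at hf
  obtain ⟨g0, hg0, hg01, z0, hz0, hz0X⟩ := hf
  have hfix : ∀ z, ¬ M.I z X → ∃ g ∈ M.K X, g ≠ 1 ∧ g • z = z := fun z hz => by
    obtain ⟨h, h1, h2⟩ := M.anti z0 X z X hz0X hz
    refine ⟨h * g0 * h⁻¹, h2 ▸ M.K_conj h hg0, by simpa using hg01, ?_⟩
    rw [← h1, mul_smul, mul_smul, inv_smul_smul, hz0]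
  set H : Subgroup ↥(M.K X) := stabilizer ↥(M.K X) z0 with hH
  have hHbot : H ≠ ⊥ := fun e => by
    have : (⟨g0, hg0⟩ : ↥(M.K X)) ∈ H := hz0
    rw [e, Subgroup.mem_bot] at this
    exact hg01 (congrArg Subtype.val this)
  have hHtop : H ≠ ⊤ := fun e => by
    have h2 : 1 < {x | ¬ M.I x X}.ncard := by
      rw [M.compl_card]
      have := M.k_lt
      omega
    obtain ⟨z, hz, hne⟩ := Set.exists_ne_of_one_lt_ncard h2 z0
    obtain ⟨g, hg, hg1, hgz⟩ := hfix z hz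
    have : (⟨g, hg⟩ : ↥(M.K X)) ∈ H := e ▸ Subgroup.mem_top _
    exact hne (M.fixed_unique hg hg1 hgz this hz hz0X)
  have hconj : ∀ g x : ↥(M.K X), x ∈ MulAut.conj g • H ↔ (x : G) • (g : G) • z0 = (g : G) • z0 := fun g x => by
    rw [Subgroup.mem_pointwise_smul_iff_inv_smul_mem, hH, mem_stabilizer_iff, MulAut.smul_def,
      MulAut.conj_inv_apply, mul_smul, mul_smul, inv_smul_eq_iff]
    rfl
  have hoff : ∀ g : ↥(M.K X), ¬ M.I ((g : G) • z0) X := fun g h => by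
    refine hz0X ?_
    have := g.2 _ h
    rw [smul_left_cancel_iff] at this
    rwa [this] at h
  have hfc : Cfsg.IsFrobeniusComplement H := by
    refine ⟨hHbot, hHtop, fun g hg => ?_⟩
    rw [eq_bot_iff]
    rintro x ⟨hx1, hx2⟩
    rw [Subgroup.mem_bot]
    by_contra hx
    exact hg (M.fixed_unique x.2 (fun e => hx (Subtype.ext e)) ((hconj g x).1 hx2) hx1 (hoff g) hz0X)
  obtain ⟨N, hN, -, hc⟩ := Cfsg.Agent.S0035.result H hfc
  refine ⟨N.map (M.K X).subtype, ?_, ?_⟩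
  · ext g
    constructor
    · rintro ⟨x, hx, rfl⟩
      refine ⟨x.2, ?_⟩
      rw [hN] at hx
      rcases hx with hx | hx
      · exact Or.inl (by rw [hx]; rfl)
      · refine Or.inr fun z hz => by_contra fun hzX => ?_
        obtain ⟨u, hu⟩ := M.K_transitive hfix hz0X hzX
        refine hx u ((hconj u x).2 ?_)
        change (u : G) • z0 = z at hu
        rw [hu]
        exact hz
    · rintro ⟨hg, hg'⟩
      refine ⟨⟨g, hg⟩, ?_, rfl⟩
      rw [hN]
      rcases hg' with hg' | hg'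
      · exact Or.inl (Subtype.ext hg')
      · exact Or.inr fun u hu => hoff u (hg' _ ((hconj u _).1 hu))
  · intro e
    rw [Subgroup.map_eq_bot_iff_of_injective _ (Subgroup.subtype_injective _)] at e
    subst e
    exact hHtop (Subgroup.isComplement'_bot_left.1 hc)

/-- The semiregular part of the pointwise stabiliser. -/
def T (X : Λ) : Subgroup G := Subgroup.closure (M.TS X)

variable (hK : ∃ X, M.K X ≠ ⊥)

include hK

theorem mem_T {g : G} {X : Λ} : g ∈ M.T X ↔ g ∈ M.K X ∧ (g = 1 ∨ ∀ z, g • z = z → M.I z X) := by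
  obtain ⟨T, hT, -⟩ := M.exists_T hK X
  rw [Des.T, ← hT, Subgroup.closure_eq, ← SetLike.mem_coe, hT]
  rfl

theorem T_ne (X : Λ) : M.T X ≠ ⊥ := by
  obtain ⟨T, hT, h⟩ := M.exists_T hK X
  rwa [Des.T, ← hT, Subgroup.closure_eq]

theorem T_K {g : G} {X : Λ} (hg : g ∈ M.T X) : g ∈ M.K X := ((M.mem_T hK).1 hg).1

theorem T_free {g : G} {X : Λ} (hg : g ∈ M.T X) {z : Ω} (hz : ¬ M.I z X) (h : g • z = z) : g = 1 :=
  ((M.mem_T hK).1 hg).2.resolve_right fun h' => hz (h' z h)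

theorem T_moved {g : G} {X : Λ} (hg : g ∈ M.T X) (hg1 : g ≠ 1) {z : Ω} (hz : ¬ M.I z X) : g • z ≠ z :=
  fun h => hg1 (M.T_free hK hg hz h)

theorem T_conj (h : G) {g : G} {X : Λ} (hg : g ∈ M.T X) : h * g * h⁻¹ ∈ M.T (h • X) := by
  rw [M.mem_T hK] at hg ⊢
  refine ⟨M.K_conj h hg.1, hg.2.imp (fun e => by simp [e]) fun hfree z hz => ?_⟩
  rw [mul_smul, mul_smul, ← eq_inv_smul_iff] at hz
  have := (M.smul_iff h _ X).2 (hfree _ hz)
  rwa [smul_inv_smul] at this

theorem fixP_T {g : G} {X : Λ} (hg : g ∈ M.T X) (hg1 : g ≠ 1) : (fixP g : Set Ω) = M.P X :=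
  Set.ext fun z => ⟨fun hz => by_contra fun h => M.T_moved hK hg hg1 h hz, fun hz => M.T_K hK hg z hz⟩

theorem fixB_card {g : G} {X : Λ} (hg : g ∈ M.T X) (hg1 : g ≠ 1) : (fixB g : Set Λ).ncard = M.k := by
  rw [← M.card_fix, M.fixP_T hK hg hg1]
  exact M.bl X

theorem T_inter {g : G} {X Y : Λ} (h1 : g ∈ M.T X) (h2 : g ∈ M.T Y) (hne : X ≠ Y) : g = 1 := by
  by_contra hg
  refine hne (M.block_ext fun x hx => ?_)
  have hfix : x ∈ (fixP g : Set Ω) := by rw [M.fixP_T hK h1 hg]; exact hx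
  rwa [M.fixP_T hK h2 hg] at hfix

/-- The semiregular group of a block moves every other block. -/
theorem T_moves {B D : Λ} (hne : D ≠ B) : ∃ t ∈ M.T B, t • D ≠ D := by
  by_contra h
  push Not at h
  refine M.T_ne hK B ((Subgroup.eq_bot_iff_forall _).2 fun t ht => M.eq_one_of_fix_blocks fun Y => ?_)
  by_cases hY : Y = B
  · rw [hY]; exact M.K_fix (M.T_K hK ht)
  obtain ⟨u, hu1, hu2⟩ := M.tt' B D B Y (Ne.symm hne) (Ne.symm hY)
  have h3 : u⁻¹ * t * u⁻¹⁻¹ ∈ M.T (u⁻¹ • B) := M.T_conj hK u⁻¹ ht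
  rw [show u⁻¹ • B = B by rw [inv_smul_eq_iff, hu1]] at h3
  have h4 := h (u⁻¹ * t * u⁻¹⁻¹) h3
  rw [inv_inv, mul_smul, mul_smul, hu2, inv_smul_eq_iff, hu2] at h4
  exact h4

omit hK

/-- The trace of a block on another one. -/
def tr (B Y : Λ) : Set Ω := {x | M.I x B ∧ M.I x Y}

/-- The blocks with the same trace. -/
def cls (B Y : Λ) : Set Λ := {Z | Z ≠ B ∧ M.tr B Z = M.tr B Y}

theorem cls_card {B Y Y' : Λ} (hY : Y ≠ B) (hY' : Y' ≠ B) : (M.cls B Y).ncard = (M.cls B Y').ncard := by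
  suffices h : ∀ {Y Y' : Λ}, Y ≠ B → Y' ≠ B → (M.cls B Y).ncard ≤ (M.cls B Y').ncard from
    le_antisymm (h hY hY') (h hY' hY)
  intro Y Y' hY hY'
  obtain ⟨u, hu1, hu2⟩ := M.tt' B Y B Y' (Ne.symm hY) (Ne.symm hY')
  refine Set.ncard_le_ncard_of_injOn (u • ·) (fun Z hZ => ?_) (fun a _ b _ h => smul_left_cancel u h)
  refine ⟨fun e => hZ.1 (smul_left_cancel u (e.trans hu1.symm)), ?_⟩
  ext x
  have h1 := Set.ext_iff.1 hZ.2 (u⁻¹ • x)
  simp only [tr, Set.mem_setOf_eq, M.inv_iff, inv_inv, hu1, hu2] at h1 ⊢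
  exact h1

theorem tr_eq_of_sub {B D Y : Λ} (hBD : B ≠ D) (hY : Y ≠ B) (h : ∀ x ∈ M.tr B Y, M.I x D) :
    M.tr B Y = M.tr B D :=
  Set.eq_of_subset_of_ncard_le (fun x hx => ⟨hx.1, h x hx⟩)
    (by simp only [tr]; rw [M.bl2 B D hBD, M.bl2 B Y (Ne.symm hY)])

theorem cls_dvd_k {B D : Λ} (hne : D ≠ B) : (M.cls B D).ncard ∣ M.k - 1 := by
  obtain ⟨p, hp⟩ : ∃ p, M.I p B := by
    by_contra h
    push Not at h
    have := M.bl B
    rw [show {x | M.I x B} = ∅ from Set.eq_empty_of_forall_notMem h, Set.ncard_empty] at this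
    have := M.lam_lt
    omega
  have h := dvd_of_fibres (M.tr B) ({Y | M.I p Y} \ {B}) (M.cls B D).ncard fun Y hY => by
    rw [M.cls_card hne hY.2]
    congr 1
    ext Z
    simp only [Set.mem_sdiff, Set.mem_setOf_eq, Set.mem_singleton_iff, cls]
    refine ⟨fun h => ⟨h.1.2, h.2⟩, fun h => ⟨⟨?_, h.1⟩, h.2⟩⟩
    have : p ∈ M.tr B Z := h.2 ▸ ⟨hp, hY.1⟩
    exact this.2
  rwa [Set.ncard_diff_singleton_of_mem (by exact hp), M.pt] at h

include hK

/-- An element of a semiregular group fixing `B` fixes each block whose trace on `B` it preserves. -/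
theorem trace_fixed {g : G} {B D Y : Λ} (hg : g ∈ M.T D) (hg1 : g ≠ 1) (hBD : B ≠ D) (hB : g • B = B)
    (hY : Y ≠ B) (htr : ∀ x ∈ M.tr B Y, M.I (g • x) Y) : g • Y = Y := by
  classical
  have step : ∀ Z, (∀ x ∈ M.tr B Z, M.I (g • x) Z) → (∃ x ∈ M.tr B Z, ¬ M.I x D) → g • Z = Z := by
    rintro Z hZ ⟨x, hx, hxD⟩
    exact M.move_fix (M.T_K hK hg) (M.T_moved hK hg hg1 hxD) hx.2 (hZ x hx)
  by_cases hsub : ∀ x ∈ M.tr B Y, M.I x D
  swap
  · push Not at hsub
    exact step Y htr hsub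
  have hYcls : Y ∈ M.cls B D := ⟨hY, M.tr_eq_of_sub hBD hY hsub⟩
  set S1 : Set Λ := {Z | g • Z = Z} \ {B} with hS1
  have hS1card : S1.ncard = M.k - 1 := by
    rw [hS1, Set.ncard_diff_singleton_of_mem (by exact hB)]
    congr 1
    exact M.fixB_card hK hg hg1
  have hr := M.cls_dvd_k (Ne.symm hBD)
  have hd : (M.cls B D).ncard ∣ (S1 \ M.cls B D).ncard := by
    refine dvd_of_fibres (M.tr B) _ _ fun Z hZ => ?_
    have hZB : Z ≠ B := hZ.1.2
    rw [M.cls_card (Ne.symm hBD) hZB]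
    congr 1
    ext W
    refine ⟨fun h => ⟨h.1.1.2, h.2⟩, fun h => ⟨⟨⟨?_, h.1⟩, fun hW => hZ.2 ⟨hZB, ?_⟩⟩, h.2⟩⟩
    · refine step W (fun x hx => ?_) ?_
      · have hxZ : x ∈ M.tr B Z := h.2 ▸ hx
        have : g • x ∈ M.tr B Z := ⟨by rw [← hB]; exact (M.smul_iff g x B).2 hxZ.1,
          by rw [← hZ.1.1]; exact (M.smul_iff g x Z).2 hxZ.2⟩
        rw [← h.2] at this
        exact this.2
      · by_contra hcon
        push Not at hcon
        exact hZ.2 ⟨hZB, h.2 ▸ M.tr_eq_of_sub hBD h.1 hcon⟩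
    · rw [← h.2]; exact hW.2
  have hD : D ∈ S1 ∩ M.cls B D := ⟨⟨M.K_fix (M.T_K hK hg), Ne.symm hBD⟩, Ne.symm hBD, rfl⟩
  have hsplit := Set.ncard_inter_add_ncard_sdiff_eq_ncard S1 (M.cls B D)
  have hdvd : (M.cls B D).ncard ∣ (S1 ∩ M.cls B D).ncard :=
    (Nat.dvd_add_left hd).1 (by rw [hsplit, hS1card]; exact hr)
  have heq : S1 ∩ M.cls B D = M.cls B D := Set.eq_of_subset_of_ncard_le Set.inter_subset_right
    (Nat.le_of_dvd ((Set.ncard_pos (Set.toFinite _)).2 ⟨D, hD⟩) hdvd)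
  have : Y ∈ S1 ∩ M.cls B D := heq.symm ▸ hYcls
  exact this.1.1

/-- Every semiregular element fixes exactly the blocks through one point of its axis. -/
theorem exists_centre {w : G} {B : Λ} (hw : w ∈ M.T B) (hw1 : w ≠ 1) :
    ∃ p, M.I p B ∧ ∀ Y, w • Y = Y ↔ M.I p Y := by
  classical
  have : Fintype Ω := Fintype.ofFinite _
  have : Fintype Λ := Fintype.ofFinite _
  have hcard : {Y : Λ | w • Y = Y}.ncard = M.k := M.fixB_card hK hw hw1
  obtain ⟨x, hx⟩ : ∃ x : Ω, {Y | M.I x Y ∧ w • Y = Y}.ncard ≠ M.lam := by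
    by_contra h
    push Not at h
    have hc := count (fun (x : Ω) (Y : Λ) => M.I x Y ∧ w • Y = Y)
    have hR : ∑ Y : Λ, {x | M.I x Y ∧ w • Y = Y}.ncard = M.k * M.k := by
      rw [sum_two (fun Y => w • Y = Y) _ M.k 0
        (fun Y hY => by simp only [hY, and_true]; exact M.bl Y) (fun Y hY => by simp [hY]), hcard]
      simp
    rw [hR] at hc
    simp only [h, Finset.sum_const, Finset.card_univ, smul_eq_mul, ← Nat.card_eq_fintype_card] at hc
    have h2 := M.count_flags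
    have hl := M.lam_lt
    have hv := M.k_lt
    zify [show 1 ≤ Nat.card Ω by omega, show 1 ≤ M.k by omega] at h2
    zify at hc hl
    nlinarith
  have hxB : M.I x B := by
    by_contra h
    exact hx (M.moved_card (M.T_K hK hw) (M.T_moved hK hw hw1 h))
  have hall : ∀ D, w • D = D → M.I x D := by
    intro D hD
    by_cases hDB : D = B
    · rw [hDB]; exact hxB
    obtain ⟨t, ht, htB⟩ := M.T_moves hK (Ne.symm hDB)
    have htK := M.T_K hK ht
    set g := w * t * w⁻¹ * t⁻¹ with hg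
    have hgT : g ∈ M.T D := mul_mem (by simpa [hD] using M.T_conj hK w ht) (inv_mem ht)
    have hg1 : g ≠ 1 := by
      intro e
      rw [hg, mul_inv_eq_one, mul_inv_eq_iff_eq_mul] at e
      refine htB (M.block_ext fun y hy => ?_)
      have h1 : w • t • (t⁻¹ • y) = t • (t⁻¹ • y) := by
        rw [← mul_smul, e, mul_smul, M.T_K hK hw _ ((M.inv_iff t⁻¹ y B).2 (by simpa using hy))]
      rw [smul_inv_smul] at h1
      exact by_contra fun h => M.T_moved hK hw hw1 h h1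
    have hfix : ∀ Y : Λ, w • Y = Y → g • Y = Y := by
      intro Y hY
      by_cases hYD : Y = D
      · rw [hYD]; exact M.K_fix (M.T_K hK hgT)
      have htD : t • D = D := M.K_fix htK
      have hne : t⁻¹ • Y ≠ D := fun e => hYD (by rw [inv_smul_eq_iff] at e; rw [e, htD])
      have hY' : w • (t⁻¹ • Y) = t⁻¹ • Y := by
        refine M.trace_fixed hK hw hw1 hDB hD hne ?_
        rintro z ⟨hzD, hzY⟩
        have hzY' : M.I z Y := by
          rw [← M.inv_iff, htK z hzD] at hzY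
          exact hzY
        rw [← M.inv_iff, htK (w • z) (by rw [← hD]; exact (M.smul_iff w z D).2 hzD)]
        rw [← hY]
        exact (M.smul_iff w z Y).2 hzY'
      rw [hg, mul_smul, mul_smul, mul_smul, (inv_smul_eq_iff.2 hY'.symm), smul_inv_smul, hY]
    have heq : {Y : Λ | w • Y = Y} = {Y : Λ | g • Y = Y} :=
      Set.eq_of_subset_of_ncard_le hfix (by rw [hcard]; exact (M.fixB_card hK hgT hg1).le)
    by_contra h
    have hm := M.moved_card (M.T_K hK hgT) (M.T_moved hK hgT hg1 h)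
    refine hx (hm ▸ ?_)
    congr 1
    ext Y
    exact and_congr_right fun _ => Set.ext_iff.1 heq Y
  refine ⟨x, hxB, fun Y => ⟨hall Y, fun h => ?_⟩⟩
  have heq : {Y : Λ | w • Y = Y} = {Y | M.I x Y} :=
    Set.eq_of_subset_of_ncard_le hall (by rw [hcard, M.pt])
  exact (Set.ext_iff.1 heq Y).2 h

end Des

end Cfsg.Lib.Ito
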