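import Mathlib

/-!
# The kernel of a finite spread geometry of dimension at least three

A finite abelian group partitioned by subgroups of equal order such that any two of them span a union of
them, with three not in a common plane, is a vector space in which they are the one-dimensional subspaces.
-/

set_option autoImplicit false
set_option linter.unusedSectionVars false

namespace Cfsg.Lib.Ito

/-- Partition by subgroups with planes. -/
structure Geo (V ι : Type*) [AddCommGroup V] where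
  U : ι → AddSubgroup V
  Q : ℕ
  card_U : ∀ i, Nat.card (U i) = Q
  part : ∀ v : V, ∃ i, v ∈ U i
  uniq : ∀ {i j : ι} {v : V}, v ≠ 0 → v ∈ U i → v ∈ U j → i = j
  plane : ∀ {i j l : ι} {v : V}, v ≠ 0 → v ∈ U l → v ∈ U i ⊔ U j → U l ≤ U i ⊔ U j
  dim : ∀ i j, ∃ l, ¬ U l ≤ U i ⊔ U j
  two : 2 ≤ Q

namespace Geo

variable {V ι : Type*} [AddCommGroup V] [Finite V] (S : Geo V ι)

/-- The component of an element. -/
noncomputable def idx (v : V) : ι := (S.part v).choose

theorem mem_idx (v : V) : v ∈ S.U (S.idx v) := (S.part v).choose_spec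

theorem idx_eq {v : V} {i : ι} (h : v ≠ 0) (hi : v ∈ S.U i) : S.idx v = i := S.uniq h (S.mem_idx v) hi

theorem idx_neg (v : V) : S.idx (-v) = S.idx v := by
  by_cases h : v = 0
  · rw [h, neg_zero]
  · exact S.idx_eq (neg_ne_zero.2 h) (neg_mem (S.mem_idx v))

theorem idx_ne {v : V} {i : ι} (h : v ∉ S.U i) : v ≠ 0 ∧ S.idx v ≠ i :=
  ⟨fun e => h (e ▸ zero_mem _), fun e => h (e ▸ S.mem_idx v)⟩

theorem le_plane {i j : ι} {v : V} (hv : v ≠ 0) (h : v ∈ S.U i ⊔ S.U j) : S.U (S.idx v) ≤ S.U i ⊔ S.U j :=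
  S.plane hv (S.mem_idx v) h

theorem card_plane {i j : ι} (hij : i ≠ j) : Nat.card ↥(S.U i ⊔ S.U j) = S.Q * S.Q := by
  let f : ↥(S.U i) × ↥(S.U j) → ↥(S.U i ⊔ S.U j) := fun z =>
    ⟨z.1 + z.2, AddSubgroup.add_mem_sup z.1.2 z.2.2⟩
  have hinj : Function.Injective f := by
    rintro ⟨a, b⟩ ⟨a', b'⟩ h
    have e : (a : V) + b = a' + b' := congrArg Subtype.val h
    have e2 : (a : V) - a' = b' - b := by rw [sub_eq_sub_iff_add_eq_add, e, add_comm]
    by_contra hne
    refine hij (S.uniq (v := (a : V) - a') (fun h0 => hne ?_) (sub_mem a.2 a'.2) (e2 ▸ sub_mem b'.2 b.2))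
    rw [h0, eq_comm, sub_eq_zero] at e2
    rw [Subtype.ext (sub_eq_zero.1 h0), Subtype.ext e2.symm]
  have hsurj : Function.Surjective f := fun ⟨v, hv⟩ => by
    obtain ⟨a, ha, b, hb, rfl⟩ := AddSubgroup.mem_sup.1 hv
    exact ⟨(⟨a, ha⟩, ⟨b, hb⟩), rfl⟩
  rw [← Nat.card_congr (Equiv.ofBijective f ⟨hinj, hsurj⟩), Nat.card_prod, S.card_U, S.card_U]

theorem plane_eq {i j r s : ι} (hij : i ≠ j) (hrs : r ≠ s) (hr : S.U r ≤ S.U i ⊔ S.U j)
    (hs : S.U s ≤ S.U i ⊔ S.U j) : S.U r ⊔ S.U s = S.U i ⊔ S.U j :=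
  AddSubgroup.eq_of_le_of_card_ge (sup_le hr hs) (by rw [S.card_plane hij, S.card_plane hrs])

theorem exists_off (i j : ι) : ∃ z, z ∉ S.U i ⊔ S.U j := by
  obtain ⟨l, hl⟩ := S.dim i j
  obtain ⟨z, -, hz⟩ := SetLike.not_le_iff_exists.1 hl
  exact ⟨z, hz⟩

/-- The defining relation of a scalar map. -/
def R (e : V → V) (x y : V) : Prop := e x - e y ∈ S.U (S.idx (x - y))

theorem R_symm {e : V → V} {x y : V} (h : S.R e x y) : S.R e y x := by
  have := neg_mem h
  rwa [neg_sub, ← S.idx_neg, neg_sub] at this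

theorem R_trans {e : V → V} (he : ∀ x, e x ∈ S.U (S.idx x)) {x y z : V} (hx : x ≠ 0) (hy : y ≠ 0)
    (hxy : S.idx x ≠ S.idx y) (hz : z ∉ S.U (S.idx x) ⊔ S.U (S.idx y)) (h1 : S.R e x y) (h2 : S.R e x z) :
    S.R e y z := by
  set d := e y - e z with hd
  change d ∈ _
  by_cases hd0 : d = 0
  · rw [hd0]; exact zero_mem _
  have hyz : S.idx y ≠ S.idx z := fun e' => hz (e' ▸ AddSubgroup.mem_sup_right (S.mem_idx z))
  have hdP : d ∈ S.U (S.idx y) ⊔ S.U (S.idx z) :=
    sub_mem (AddSubgroup.mem_sup_left (he y)) (AddSubgroup.mem_sup_right (he z))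
  have hd' : d ∈ S.U (S.idx (x - z)) ⊔ S.U (S.idx (x - y)) := by
    rw [show d = (e x - e z) - (e x - e y) by rw [hd]; abel]
    exact sub_mem (AddSubgroup.mem_sup_left h2) (AddSubgroup.mem_sup_right h1)
  have hyzP : y - z ∈ S.U (S.idx y) ⊔ S.U (S.idx z) :=
    sub_mem (AddSubgroup.mem_sup_left (S.mem_idx y)) (AddSubgroup.mem_sup_right (S.mem_idx z))
  have hyz' : y - z ∈ S.U (S.idx (x - z)) ⊔ S.U (S.idx (x - y)) := by
    rw [show y - z = (x - z) - (x - y) by abel]
    exact sub_mem (AddSubgroup.mem_sup_left (S.mem_idx _)) (AddSubgroup.mem_sup_right (S.mem_idx _))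
  have hyz0 : y - z ≠ 0 := fun h0 => hyz (by rw [sub_eq_zero.1 h0])
  by_contra hcon
  have hne : S.idx d ≠ S.idx (y - z) := fun h => hcon (h ▸ S.mem_idx d)
  by_cases hzy : S.idx (x - z) = S.idx (x - y)
  · rw [hzy, sup_idem] at hd' hyz'
    exact hne ((S.idx_eq hd0 hd').trans (S.idx_eq hyz0 hyz').symm)
  have e1 := S.plane_eq hyz hne (S.le_plane hd0 hdP) (S.le_plane hyz0 hyzP)
  have e2 := S.plane_eq hzy hne (S.le_plane hd0 hd') (S.le_plane hyz0 hyz')
  have hxP : x ∈ S.U (S.idx y) ⊔ S.U (S.idx z) := by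
    rw [show x = (x - y) + y by abel]
    exact add_mem (by rw [← e1, e2]; exact AddSubgroup.mem_sup_right (S.mem_idx _))
      (AddSubgroup.mem_sup_left (S.mem_idx y))
  refine hz ?_
  rw [S.plane_eq hyz hxy (S.le_plane hx hxP) le_sup_left]
  exact AddSubgroup.mem_sup_right (S.mem_idx z)

theorem exists_step {a a' u : V} (ha0 : a ≠ 0) (ha : a' ∈ S.U (S.idx a)) (hne : S.idx u ≠ S.idx a) :
    ∃ e, e ∈ S.U (S.idx u) ∧ e - a' ∈ S.U (S.idx (u - a)) := by
  have hle : S.U (S.idx a) ≤ S.U (S.idx u) ⊔ S.U (S.idx (u - a)) := by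
    refine S.le_plane ha0 ?_
    have h := sub_mem (AddSubgroup.mem_sup_left (T := S.U (S.idx (u - a))) (S.mem_idx u))
      (AddSubgroup.mem_sup_right (S := S.U (S.idx u)) (S.mem_idx (u - a)))
    rwa [sub_sub_cancel] at h
  obtain ⟨b, hb, c, hc, hbc⟩ := AddSubgroup.mem_sup.1 (hle ha)
  refine ⟨b, hb, ?_⟩
  rw [← hbc, show b - (b + c) = -c by abel]
  exact neg_mem hc

theorem step_unique {a u e e' a' : V} (hu : u ≠ 0) (ha0 : a ≠ 0) (hne : S.idx u ≠ S.idx a)
    (h1 : e ∈ S.U (S.idx u)) (h2 : e - a' ∈ S.U (S.idx (u - a))) (h1' : e' ∈ S.U (S.idx u))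
    (h2' : e' - a' ∈ S.U (S.idx (u - a))) : e = e' := by
  by_contra h
  have h3 : e - e' ∈ S.U (S.idx (u - a)) := by
    have := sub_mem h2 h2'
    rwa [sub_sub_sub_cancel_right] at this
  have h4 := S.uniq (sub_ne_zero.2 h) (sub_mem h1 h1') h3
  refine hne ?_
  have ha : a ∈ S.U (S.idx u) := by
    have := sub_mem (S.mem_idx u) (h4.symm ▸ S.mem_idx (u - a) : u - a ∈ S.U (S.idx u))
    rwa [sub_sub_cancel] at this
  exact (S.idx_eq ha0 ha).symm

/-- Every pair in one component is realised by a scalar map. -/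
theorem exists_hom {a a' : V} (ha0 : a ≠ 0) (ha' : a' ∈ S.U (S.idx a)) :
    ∃ f : V →+ V, (∀ i, ∀ v ∈ S.U i, f v ∈ S.U i) ∧ f a = a' := by
  classical
  obtain ⟨b, hb⟩ := S.exists_off (S.idx a) (S.idx a)
  rw [sup_idem] at hb
  obtain ⟨hb0, hba⟩ := S.idx_ne hb
  obtain ⟨b', hb1, hb2⟩ := S.exists_step ha0 ha' hba
  set e : V → V := fun x =>
    if h : S.idx x ≠ S.idx a then (if x = 0 then 0 else (S.exists_step ha0 ha' h).choose)
    else if x = 0 then 0 else if hb' : S.idx x ≠ S.idx b then (S.exists_step hb0 hb1 hb').choose else 0 with he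
  have e0 : e 0 = 0 := by
    simp only [he]
    split_ifs <;> rfl
  have eP : ∀ x, x ≠ 0 → S.idx x ≠ S.idx a →
      e x ∈ S.U (S.idx x) ∧ e x - a' ∈ S.U (S.idx (x - a)) := fun x hx h => by
    simp only [he, dif_pos h, if_neg hx]
    exact (S.exists_step ha0 ha' h).choose_spec
  have eN : ∀ x, x ≠ 0 → S.idx x = S.idx a →
      e x ∈ S.U (S.idx x) ∧ e x - b' ∈ S.U (S.idx (x - b)) := fun x hx h => by
    have hxb : S.idx x ≠ S.idx b := by rw [h]; exact Ne.symm hba
    simp only [he, dif_neg (not_not.2 h), if_neg hx, dif_pos hxb]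
    exact (S.exists_step hb0 hb1 hxb).choose_spec
  have emem : ∀ x, e x ∈ S.U (S.idx x) := fun x => by
    by_cases hx : x = 0
    · rw [hx, e0]; exact zero_mem _
    by_cases h : S.idx x = S.idx a
    · exact (eN x hx h).1
    · exact (eP x hx h).1
  have eb : e b = b' := S.step_unique hb0 ha0 hba (eP b hb0 hba).1 (eP b hb0 hba).2 hb1 hb2
  have ea : e a = a' := by
    refine S.step_unique ha0 hb0 (Ne.symm hba) (eN a ha0 rfl).1 (eN a ha0 rfl).2 ha' ?_
    rw [← neg_sub b' a', ← neg_sub b a, S.idx_neg]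
    exact neg_mem hb2
  have Ra : ∀ x, x ≠ 0 → S.idx x ≠ S.idx a → S.R e a x := fun x hx h => by
    refine S.R_symm ?_
    simp only [R, ea]
    exact (eP x hx h).2
  have off : ∀ x y, x ≠ 0 → y ≠ 0 → S.idx x ≠ S.idx a → S.idx y ≠ S.idx a → S.idx x ≠ S.idx y →
      S.R e x y := by
    intro x y hx hy hxa hya hxy
    by_cases hyP : y ∈ S.U (S.idx a) ⊔ S.U (S.idx x)
    swap
    · exact S.R_trans emem ha0 hx (Ne.symm hxa) hyP (Ra x hx hxa) (Ra y hy hya)
    obtain ⟨z, hz⟩ := S.exists_off (S.idx a) (S.idx x)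
    obtain ⟨hz0, hza⟩ := S.idx_ne (fun h => hz (AddSubgroup.mem_sup_left h) : z ∉ S.U (S.idx a))
    have hP := S.plane_eq (Ne.symm hxa) (Ne.symm hya) le_sup_left (S.le_plane hy hyP)
    have hxz : x ∉ S.U (S.idx a) ⊔ S.U (S.idx z) := fun h => hz (by
      rw [S.plane_eq (Ne.symm hza) (Ne.symm hxa) le_sup_left (S.le_plane hx h)]
      exact AddSubgroup.mem_sup_right (S.mem_idx z))
    have hyz : y ∉ S.U (S.idx a) ⊔ S.U (S.idx z) := fun h => hz (by
      rw [← hP, S.plane_eq (Ne.symm hza) (Ne.symm hya) le_sup_left (S.le_plane hy h)]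
      exact AddSubgroup.mem_sup_right (S.mem_idx z))
    have h1 := S.R_trans emem ha0 hz0 (Ne.symm hza) hxz (Ra z hz0 hza) (Ra x hx hxa)
    have h2 := S.R_trans emem ha0 hz0 (Ne.symm hza) hyz (Ra z hz0 hza) (Ra y hy hya)
    have hzx : S.idx z ≠ S.idx x := fun h => hz (AddSubgroup.mem_sup_right (h ▸ S.mem_idx z))
    refine S.R_trans emem hz0 hx hzx (fun h => hz ?_) h1 h2
    have hp1 := S.plane_eq hzx hxy le_sup_right (S.le_plane hy h)
    have hp2 := S.plane_eq (Ne.symm hxa) hxy le_sup_right (S.le_plane hy hyP)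
    rw [← hp2, hp1]
    exact AddSubgroup.mem_sup_left (S.mem_idx z)
  have inner : ∀ x y, x ≠ 0 → y ≠ 0 → S.idx x = S.idx a → S.idx y ≠ S.idx a → S.R e x y := by
    intro x y hx hy hxa hya
    have hbx : S.idx b ≠ S.idx x := by rw [hxa]; exact hba
    have Rbx : S.R e b x := by
      refine S.R_symm ?_
      simp only [R, eb]
      exact (eN x hx hxa).2
    have gen : ∀ w, w ≠ 0 → S.idx w ≠ S.idx a → w ∉ S.U (S.idx b) ⊔ S.U (S.idx x) → S.R e x w := by
      intro w hw hwa hwP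
      refine S.R_trans emem hb0 hx hbx hwP Rbx (off b w hb0 hw hba hwa fun h => hwP ?_)
      exact AddSubgroup.mem_sup_left (h ▸ S.mem_idx w)
    by_cases hyP : y ∈ S.U (S.idx b) ⊔ S.U (S.idx x)
    swap
    · exact gen y hy hya hyP
    obtain ⟨z, hz⟩ := S.exists_off (S.idx b) (S.idx x)
    obtain ⟨hz0, hzx⟩ := S.idx_ne (fun h => hz (AddSubgroup.mem_sup_right h) : z ∉ S.U (S.idx x))
    have hza : S.idx z ≠ S.idx a := hxa ▸ hzx
    have hxy : S.idx x ≠ S.idx y := by rw [hxa]; exact Ne.symm hya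
    have hzy : S.idx z ≠ S.idx y := fun h => hz (S.le_plane hy hyP (h ▸ S.mem_idx z))
    refine S.R_trans emem hz0 hx hzx (fun h => hz ?_) (S.R_symm (gen z hz0 hza hz))
      (off z y hz0 hy hza hya hzy)
    have hp1 := S.plane_eq hzx hxy le_sup_right (S.le_plane hy h)
    have hp2 := S.plane_eq hbx hxy le_sup_right (S.le_plane hy hyP)
    rw [← hp2, hp1]
    exact AddSubgroup.mem_sup_left (S.mem_idx z)
  have allR : ∀ x y, x ≠ 0 → y ≠ 0 → S.idx x ≠ S.idx y → S.R e x y := by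
    intro x y hx hy hxy
    by_cases hxa : S.idx x = S.idx a
    · exact inner x y hx hy hxa fun h => hxy (hxa.trans h.symm)
    by_cases hya : S.idx y = S.idx a
    · exact S.R_symm (inner y x hy hx hya hxa)
    exact off x y hx hy hxa hya hxy
  have addI : ∀ u w, u ≠ 0 → w ≠ 0 → S.idx u ≠ S.idx w → e (u + w) = e u + e w := by
    intro u w hu hw huw
    have hne : ∀ {u w : V}, u ≠ 0 → w ≠ 0 → S.idx u ≠ S.idx w → u + w ≠ 0 ∧ S.idx (u + w) ≠ S.idx u := by
      intro u w hu hw huw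
      have h1 : u + w ∉ S.U (S.idx u) := fun h => huw (by
        have := sub_mem h (S.mem_idx u)
        rw [add_sub_cancel_left] at this
        exact (S.idx_eq hw this).symm)
      exact S.idx_ne h1
    obtain ⟨hs, hsu⟩ := hne hu hw huw
    obtain ⟨-, hsw⟩ := hne hw hu (Ne.symm huw)
    rw [add_comm w u] at hsw
    have h1 := allR (u + w) u hs hu hsu
    have h2 := allR (u + w) w hs hw hsw
    simp only [R, add_sub_cancel_left, add_sub_cancel_right] at h1 h2
    by_contra hd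
    have hd' : e (u + w) - e u - e w ≠ 0 := fun h => hd (by
      rw [sub_sub, sub_eq_zero] at h; exact h)
    refine huw (S.uniq hd' ?_ (sub_mem h1 (emem w)))
    rw [show e (u + w) - e u - e w = (e (u + w) - e w) - e u by abel]
    exact sub_mem h2 (emem u)
  have add : ∀ u w, e (u + w) = e u + e w := by
    intro u w
    by_cases hu : u = 0
    · rw [hu, e0, zero_add, zero_add]
    by_cases hw : w = 0
    · rw [hw, e0, add_zero, add_zero]
    by_cases huw : S.idx u = S.idx w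
    swap
    · exact addI u w hu hw huw
    obtain ⟨z, hz⟩ := S.exists_off (S.idx u) (S.idx u)
    rw [sup_idem] at hz
    obtain ⟨hz0, hzu⟩ := S.idx_ne hz
    have hwz := addI w z hw hz0 (huw ▸ Ne.symm hzu)
    have hwzU : w + z ∉ S.U (S.idx u) := fun h => hz (by
      have := sub_mem h (huw ▸ S.mem_idx w : w ∈ S.U (S.idx u))
      rwa [add_sub_cancel_left] at this)
    obtain ⟨hwz0, hwzne⟩ := S.idx_ne hwzU
    have h1 := addI u (w + z) hu hwz0 (Ne.symm hwzne)
    rw [hwz, ← add_assoc] at h1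
    by_cases hs : u + w = 0
    · rw [hs, zero_add] at h1
      rw [hs, e0]
      have : e z + 0 = e z + (e u + e w) := by rw [add_zero]; conv_lhs => rw [h1]
                                               abel
      exact add_left_cancel this
    · have h2 := addI (u + w) z hs hz0 (by
        rw [S.idx_eq hs (add_mem (S.mem_idx u) (huw ▸ S.mem_idx w : w ∈ S.U (S.idx u)))]
        exact Ne.symm hzu)
      rw [h2] at h1
      exact add_right_cancel (h1.trans (add_assoc _ _ _).symm)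
  refine ⟨AddMonoidHom.mk' e add, fun i v hv => ?_, ea⟩
  change e v ∈ S.U i
  by_cases hv0 : v = 0
  · rw [hv0, e0]; exact zero_mem _
  · rw [← S.idx_eq hv0 hv]; exact emem v

/-- The scalar maps. -/
def Ker : Subring (AddMonoid.End V) where
  carrier := {f | ∀ i, ∀ v ∈ S.U i, f v ∈ S.U i}
  one_mem' := fun i v hv => hv
  zero_mem' := fun i v _ => zero_mem _
  mul_mem' := fun {f g} hf hg i v hv => hf i _ (hg i v hv)
  add_mem' := fun {f g} hf hg i v hv => add_mem (hf i v hv) (hg i v hv)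
  neg_mem' := fun {f} hf i v hv => neg_mem (hf i v hv)

theorem ker_eq_zero {f : AddMonoid.End V} (hf : f ∈ S.Ker) {v : V} (hv : v ≠ 0) (h : f v = 0) : f = 0 := by
  have key : ∀ v u : V, v ≠ 0 → f v = 0 → u ∉ S.U (S.idx v) → f u = 0 := by
    intro v u hv h hu
    by_contra hfu
    have h1 : f u ∈ S.U (S.idx (v + u)) := by
      have := hf _ _ (S.mem_idx (v + u))
      rwa [map_add, h, zero_add] at this
    have h2 := S.uniq hfu (hf _ _ (S.mem_idx u)) h1
    refine hu ?_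
    obtain ⟨hu0, hne⟩ := S.idx_ne hu
    have hv' : v ∈ S.U (S.idx u) := by
      have := sub_mem (h2.symm ▸ S.mem_idx (v + u) : v + u ∈ S.U (S.idx u)) (S.mem_idx u)
      rwa [add_sub_cancel_right] at this
    exact absurd (S.idx_eq hv hv').symm hne
  obtain ⟨z, hz⟩ := S.exists_off (S.idx v) (S.idx v)
  rw [sup_idem] at hz
  obtain ⟨hz0, hzv⟩ := S.idx_ne hz
  refine AddMonoidHom.ext fun u => ?_
  change f u = 0
  by_cases hu : u ∈ S.U (S.idx v)
  · by_cases hu0 : u = 0
    · rw [hu0, map_zero]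
    refine key z u hz0 (key v z hv h hz) fun h' => hzv ?_
    rw [← S.idx_eq hu0 h', S.idx_eq hu0 hu]
  · exact key v u hv h hu

/-- The geometry is a vector space over a field of order `Q`. -/
theorem exists_field : ∃ (F : Type) (_ : Field F) (_ : Fintype F) (_ : Module F V),
    Fintype.card F = S.Q ∧ ∀ i, ∀ (r : F), ∀ v ∈ S.U i, r • v ∈ S.U i := by
  classical
  obtain ⟨i0, -⟩ := S.part (0 : V)
  have : Finite (AddMonoid.End V) := Finite.of_injective (fun f : AddMonoid.End V => (f : V → V)) DFunLike.coe_injective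
  obtain ⟨a, ha, ha0⟩ : ∃ a ∈ S.U i0, a ≠ 0 := by
    have h1 : S.U i0 ≠ ⊥ := fun e => by
      have := S.card_U i0
      rw [e, AddSubgroup.card_bot] at this
      have := S.two
      omega
    obtain ⟨⟨a, ha⟩, ha'⟩ := AddSubgroup.ne_bot_iff_exists_ne_zero.1 h1
    exact ⟨a, ha, fun e => ha' (Subtype.ext e)⟩
  have hia : S.idx a = i0 := S.idx_eq ha0 ha
  have : Nontrivial ↥S.Ker := ⟨⟨0, 1, fun e => ha0 (by
    have := DFunLike.congr_fun (congrArg Subtype.val e) a
    exact this.symm)⟩⟩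
  have : NoZeroDivisors ↥S.Ker := ⟨fun {f g} hfg => by
    by_contra h
    push Not at h
    obtain ⟨v, hv⟩ : ∃ v, (g : AddMonoid.End V) v ≠ 0 := by
      by_contra hh
      push Not at hh
      exact h.2 (Subtype.ext (AddMonoidHom.ext hh))
    exact h.1 (Subtype.ext (S.ker_eq_zero f.2 hv (DFunLike.congr_fun (congrArg Subtype.val hfg) v)))⟩
  have : IsDomain ↥S.Ker := NoZeroDivisors.to_isDomain _
  let _ : Field ↥S.Ker := (Finite.isDomain_to_isField ↥S.Ker).toField
  have hcard : Nat.card ↥S.Ker = S.Q := by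
    rw [← S.card_U i0]
    refine Nat.card_eq_of_bijective (fun f => ⟨(f : AddMonoid.End V) a, f.2 i0 a ha⟩) ⟨fun f g h => ?_, ?_⟩
    · refine Subtype.ext (sub_eq_zero.1 (S.ker_eq_zero (sub_mem f.2 g.2) ha0 ?_))
      change (f : AddMonoid.End V) a - (g : AddMonoid.End V) a = 0
      rw [sub_eq_zero]
      exact congrArg Subtype.val h
    · rintro ⟨a', ha'⟩
      obtain ⟨f, hf, hfa⟩ := S.exists_hom ha0 (hia.symm ▸ ha')
      exact ⟨⟨f, hf⟩, Subtype.ext hfa⟩
  let e : {x : Fin (Nat.card ↥S.Ker) // True} ≃ ↥S.Ker :=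
    (Equiv.subtypeUnivEquiv fun _ => trivial).trans (Finite.equivFin ↥S.Ker).symm
  let _ : Field {x : Fin (Nat.card ↥S.Ker) // True} := e.field
  let ψ : {x : Fin (Nat.card ↥S.Ker) // True} ≃+* ↥S.Ker := e.ringEquiv
  refine ⟨{x : Fin (Nat.card ↥S.Ker) // True}, inferInstance, inferInstance,
    Module.compHom V (S.Ker.subtype.comp ψ.toRingHom), ?_, fun i r v hv => ?_⟩
  · rw [← Nat.card_eq_fintype_card, Nat.card_congr e, hcard]
  · exact (ψ r).2 i v hv

end Geo

end Cfsg.Lib.Ito
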