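import Cfsg.Agent.Lib.Ito.Final
import Cfsg.Agent.Lib.Ito.Field
import Cfsg.Agent.S3732

/-!
# Coordinates for the design
-/

set_option autoImplicit false
set_option linter.style.haveILetI false
set_option linter.unusedSectionVars false

namespace Cfsg.Lib.Ito

open MulAction Matrix

/-- Linear forms as vectors. -/
theorem exists_vec {ι F : Type*} [Fintype ι] [DecidableEq ι] [Field F] (L : (ι → F) →ₗ[F] F) :
    ∃ a : ι → F, (∀ v, a ⬝ᵥ v = L v) ∧ (L ≠ 0 → a ≠ 0) := by
  refine ⟨fun i => L (Pi.single i 1), fun v => ?_, fun hL h => hL (LinearMap.ext fun v => ?_)⟩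
  · rw [LinearMap.pi_apply_eq_sum_univ L v]
    refine Finset.sum_congr rfl fun i _ => ?_
    rw [smul_eq_mul, mul_comm]
    congr 1
    refine congrArg L (funext fun j => ?_)
    simp [Pi.single_apply, eq_comm]
  · rw [LinearMap.pi_apply_eq_sum_univ L v, LinearMap.zero_apply]
    refine Finset.sum_eq_zero fun i _ => ?_
    have h0 := congrFun h i
    have e : (fun j => if i = j then (1 : F) else 0) = Pi.single i 1 := by
      funext j; simp [Pi.single_apply, eq_comm]
    rw [e, show L (Pi.single i 1) = 0 from h0, smul_zero]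

variable {G Ω Λ : Type*} [Group G] [MulAction G Ω] [MulAction G Λ]
variable [Finite G] [Finite Ω] [Finite Λ] [FaithfulSMul G Ω]

namespace Des

variable (M : Des G Ω Λ) {F : Type} [Field F] {n : ℕ}

theorem coord_of_blocks [Finite F] (φ : Ω ≃ Projectivization F (Fin n → F))
    (block : ∀ X, ∃ a : Fin n → F, a ≠ 0 ∧ ∀ x, M.I x X ↔ a ⬝ᵥ (φ x).rep = 0) : M.Coord φ := by
  classical
  choose a ha0 ha using block
  have hinj : Function.Injective (fun X => Projectivization.mk F (a X) (ha0 X)) := by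
    intro X Y h
    obtain ⟨c, hc⟩ := (Projectivization.mk_eq_mk_iff F _ _ _ _).1 h
    refine M.block_ext fun x hx => ?_
    rw [ha, ← hc] at hx
    rw [ha]
    change ((c : F) • a Y) ⬝ᵥ (φ x).rep = 0 at hx
    rw [smul_dotProduct, smul_eq_mul, mul_eq_zero, or_iff_right c.ne_zero] at hx
    exact hx
  have hsurj : Function.Surjective (fun X => Projectivization.mk F (a X) (ha0 X)) :=
    ((Nat.bijective_iff_injective_and_card _).2 ⟨hinj, by rw [M.card_eq, Nat.card_congr φ]⟩).2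
  have all : ∀ b : Fin n → F, b ≠ 0 → ∃ X, ∀ x, M.I x X ↔ b ⬝ᵥ (φ x).rep = 0 := by
    intro b hb
    obtain ⟨X, hX⟩ := hsurj (Projectivization.mk F b hb)
    obtain ⟨c, hc⟩ := (Projectivization.mk_eq_mk_iff F _ _ _ _).1 hX
    refine ⟨X, fun x => ?_⟩
    rw [ha X x, ← hc]
    change ((c : F) • b) ⬝ᵥ (φ x).rep = 0 ↔ _
    rw [smul_dotProduct, smul_eq_mul, mul_eq_zero, or_iff_right c.ne_zero]
  refine ⟨fun p x z hpx => ⟨fun hz => by_contra fun hmem => ?_, fun hz Y h1 h2 => ?_⟩,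
    fun X => ⟨a X, ha0 X, ha X⟩, all⟩
  · obtain ⟨L, hLz, hL⟩ := Submodule.exists_le_ker_of_notMem hmem
    obtain ⟨b, hb, hb0⟩ := exists_vec L
    obtain ⟨X, hX⟩ := all b (hb0 fun e => hLz (by rw [e]; rfl))
    refine hLz ?_
    rw [← hb]
    refine (hX z).1 (hz X ((hX p).2 ?_) ((hX x).2 ?_)) <;> rw [hb]
    · exact hL (Submodule.subset_span (Or.inl rfl))
    · exact hL (Submodule.subset_span (Or.inr rfl))
  · obtain ⟨u, v, huv⟩ := Submodule.mem_span_pair.1 hz
    rw [ha, ← huv, dotProduct_add, dotProduct_smul, dotProduct_smul, (ha Y p).1 h1, (ha Y x).1 h2]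
    simp

variable (hK : ∃ X, M.K X ≠ ⊥)

include hK

theorem exists_coord_big (h2 : 2 ≤ M.lam) :
    ∃ (m : ℕ) (F : Type) (_ : Field F) (_ : Fintype F) (φ : Ω ≃ Projectivization F (Fin (m + 1) → F)),
      2 ≤ m ∧ M.Coord φ := by
  classical
  obtain ⟨B⟩ : Nonempty Λ := by
    have := M.k_lt
    exact (Nat.card_pos_iff.1 (by rw [M.card_eq]; omega)).1
  obtain ⟨o, ho⟩ := M.exists_off B
  obtain ⟨hh, hTcard, hk, hT'⟩ := M.numbers hK B
  letI : CommGroup ↥(M.T B) := { mul_comm := fun s t => Subtype.ext (M.T_comm hK s.2 t.2) }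
  let gv : Additive ↥(M.T B) → G := fun v => ((Additive.toMul v : ↥(M.T B)) : G)
  have gv_mem : ∀ v, gv v ∈ M.T B := fun v => (Additive.toMul v : ↥(M.T B)).2
  have gv_one : ∀ v, gv v = 1 ↔ v = 0 := fun v => ⟨fun h => (Subtype.ext h : Additive.toMul v = (1 : ↥(M.T B))), fun h => by subst h; rfl⟩
  let Ut : {p : Ω // M.I p B} → AddSubgroup (Additive ↥(M.T B)) := fun p =>
    Subgroup.toAddSubgroup ((M.U B p.1).subgroupOf (M.T B))
  have mem_Ut : ∀ v p, v ∈ Ut p ↔ gv v ∈ M.U B p.1 := fun v p => Iff.rfl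
  have hUtcard : ∀ p, Nat.card (Ut p) = M.h B := fun p => by
    rw [← M.card_U hK p.2]
    exact Nat.card_congr
      { toFun := fun v => ⟨gv v.1, v.2⟩
        invFun := fun t => ⟨Additive.ofMul (⟨t.1, t.2.1⟩ : ↥(M.T B)), t.2⟩
        left_inv := fun v => rfl
        right_inv := fun t => rfl }
  have huniq : ∀ {i j : {p : Ω // M.I p B}} {v : Additive ↥(M.T B)}, v ≠ 0 → v ∈ Ut i → v ∈ Ut j → i = j :=
    fun {i j v} hv hi hj => Subtype.ext (M.U_unique hK hi hj fun e => hv ((gv_one v).1 e))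
  have hcardV : Nat.card (Additive ↥(M.T B)) = Nat.card (M.T B) := Nat.card_congr Additive.toMul
  let S : Geo (Additive ↥(M.T B)) {p : Ω // M.I p B} :=
    { U := Ut
      Q := M.h B
      card_U := hUtcard
      part := fun v => by
        by_cases hv : v = 0
        · obtain ⟨p, hp⟩ := M.exists_pt B
          exact ⟨⟨p, hp⟩, hv ▸ zero_mem _⟩
        · obtain ⟨p, hp, hU, -⟩ := M.exists_U hK (gv_mem v) fun e => hv ((gv_one v).1 e)
          exact ⟨⟨p, hp⟩, hU⟩
      uniq := huniq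
      plane := fun {i j l v} hv0 hl hv => by
        by_cases hij : i = j
        · subst hij
          rw [sup_idem] at hv ⊢
          rw [huniq hv0 hl hv]
        obtain ⟨h1, h3⟩ := M.plane hK (r := l.1) i.2 j.2 (fun e => hij (Subtype.ext e))
        obtain ⟨a, ha, b, hb, rfl⟩ := AddSubgroup.mem_sup.1 hv
        have hline := h3 (gv a) ha (gv b) hb (fun e => hv0 ((gv_one (a + b)).1 e)) hl
        intro w hw
        obtain ⟨c, hc, d, hd, hcd⟩ := h1 hline (gv w) hw
        refine AddSubgroup.mem_sup.2 ⟨Additive.ofMul (⟨c, hc.1⟩ : ↥(M.T B)), hc,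
          Additive.ofMul (⟨d, hd.1⟩ : ↥(M.T B)), hd, ?_⟩
        exact (Subtype.ext hcd.symm : (⟨c, hc.1⟩ : ↥(M.T B)) * ⟨d, hd.1⟩ = Additive.toMul w)
      dim := fun i j => by
        by_contra h
        push Not at h
        have hall : ∀ v : Additive ↥(M.T B), v ∈ Ut i ⊔ Ut j := fun v => by
          by_cases hv : v = 0
          · exact hv ▸ zero_mem _
          · obtain ⟨p, hp, hU, -⟩ := M.exists_U hK (gv_mem v) fun e => hv ((gv_one v).1 e)
            exact h ⟨p, hp⟩ hU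
        have hle : Nat.card (Additive ↥(M.T B)) ≤ Nat.card (↥(Ut i) × ↥(Ut j)) := by
          refine Nat.card_le_card_of_surjective (fun z => (z.1 : Additive ↥(M.T B)) + z.2) fun v => ?_
          obtain ⟨a, ha, b, hb, hab⟩ := AddSubgroup.mem_sup.1 (hall v)
          exact ⟨(⟨a, ha⟩, ⟨b, hb⟩), hab⟩
        rw [Nat.card_prod, hUtcard, hUtcard, hcardV, hT'] at hle
        have h5 := Nat.le_of_mul_le_mul_right hle (by omega)
        have : 2 * M.h B ≤ M.lam * M.h B := Nat.mul_le_mul_right _ h2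
        obtain ⟨l, hl⟩ : ∃ l, M.h B = l + 1 := ⟨M.h B - 1, by omega⟩
        rw [hl, Nat.mul_add, Nat.mul_one] at hk this
        have : 2 * l ≤ M.lam * l := Nat.mul_le_mul_right _ h2
        omega
      two := hh }
  obtain ⟨F, iF, fF, mF, hFcard, hFU⟩ := S.exists_field
  change Fintype.card F = M.h B at hFcard
  have : Module.Finite F (Additive ↥(M.T B)) := Module.Finite.of_finite
  obtain ⟨d, hd⟩ : ∃ d, Module.finrank F (Additive ↥(M.T B)) = d := ⟨_, rfl⟩
  have hVcard : Nat.card (M.T B) = M.h B ^ d := by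
    rw [← hcardV, Module.natCard_eq_pow_finrank (K := F), hd, Nat.card_eq_fintype_card, hFcard]
  have hd2 : 2 ≤ d := by
    by_contra hlt
    have h6 : M.h B ^ d ≤ M.h B ^ 1 := Nat.pow_le_pow_right (by omega) (by omega)
    rw [← hVcard, pow_one, hT'] at h6
    have h7 : 2 * M.h B ≤ (M.k - M.lam) * M.h B := Nat.mul_le_mul_right _ M.k_sub_pos
    omega
  choose u hu hu0 using fun p : {p : Ω // M.I p B} => show ∃ v ∈ Ut p, v ≠ 0 by
    have h1 : Ut p ≠ ⊥ := fun e => by
      have := hUtcard p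
      rw [e, AddSubgroup.card_bot] at this
      omega
    obtain ⟨⟨a, ha⟩, ha'⟩ := AddSubgroup.ne_bot_iff_exists_ne_zero.1 h1
    exact ⟨a, ha, fun e => ha' (Subtype.ext e)⟩
  have hline : ∀ (p : {p : Ω // M.I p B}) v, v ∈ Ut p → ∃ r : F, v = r • u p := by
    intro p v hv
    let f : F → ↥(Ut p) := fun r => ⟨r • u p, hFU p r _ (hu p)⟩
    have hf : Function.Bijective f := by
      refine (Nat.bijective_iff_injective_and_card f).2 ⟨fun r r' e => ?_, ?_⟩
      · exact smul_left_injective F (hu0 p) (congrArg Subtype.val e)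
      · rw [hUtcard, Nat.card_eq_fintype_card, hFcard]
    obtain ⟨r, hr⟩ := hf.2 ⟨v, hv⟩
    exact ⟨r, (congrArg Subtype.val hr).symm⟩
  choose τ hτT hτ using fun x : {x : Ω // ¬ M.I x B} => M.T_transitive hK ho x.2
  let ψ : Ω → F × Additive ↥(M.T B) := fun x => if hx : M.I x B then (0, u ⟨x, hx⟩)
    else (1, Additive.ofMul (⟨τ ⟨x, hx⟩, hτT _⟩ : ↥(M.T B)))
  have ψ0 : ∀ x, ψ x ≠ 0 := fun x h => by
    simp only [ψ] at h
    split_ifs at h with hx
    · exact hu0 _ (congrArg Prod.snd h)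
    · exact one_ne_zero (congrArg Prod.fst h)
  have : FiniteDimensional F (F × Additive ↥(M.T B)) := Module.Finite.of_finite
  let e : (F × Additive ↥(M.T B)) ≃ₗ[F] (Fin (d + 1) → F) := LinearEquiv.ofFinrankEq _ _ (by
    rw [Module.finrank_prod, Module.finrank_self, hd, Module.finrank_pi, Fintype.card_fin, add_comm])
  let φ0 : Ω → Projectivization F (Fin (d + 1) → F) := fun x =>
    Projectivization.mk F (e (ψ x)) (fun h => ψ0 x (e.map_eq_zero_iff.1 h))
  have hbij : Function.Bijective φ0 := by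
    constructor
    · intro x y hxy
      obtain ⟨c, hc⟩ := (Projectivization.mk_eq_mk_iff' F _ _ _ _).1 hxy
      rw [← map_smul] at hc
      have hc' := e.injective hc
      simp only [ψ] at hc'
      split_ifs at hc' with hy hx hx
      · have h1 : c • u ⟨y, hy⟩ = u ⟨x, hx⟩ := congrArg Prod.snd hc'
        exact congrArg Subtype.val (huniq (hu0 _) (hu ⟨x, hx⟩) (h1 ▸ hFU _ c _ (hu ⟨y, hy⟩)))
      · have h1 : c * 0 = (1 : F) := congrArg Prod.fst hc'
        exact absurd h1 (by simp)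
      · have h1 : c * 1 = (0 : F) := congrArg Prod.fst hc'
        rw [mul_one] at h1
        have h2 : c • Additive.ofMul (⟨τ ⟨y, hy⟩, hτT _⟩ : ↥(M.T B)) = u ⟨x, hx⟩ := congrArg Prod.snd hc'
        rw [h1, zero_smul] at h2
        exact absurd h2.symm (hu0 _)
      · have h1 : c * 1 = (1 : F) := congrArg Prod.fst hc'
        rw [mul_one] at h1
        have h2 : c • Additive.ofMul (⟨τ ⟨y, hy⟩, hτT _⟩ : ↥(M.T B)) =
          Additive.ofMul (⟨τ ⟨x, hx⟩, hτT _⟩ : ↥(M.T B)) := congrArg Prod.snd hc'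
        rw [h1, one_smul] at h2
        have h3 : τ ⟨y, hy⟩ = τ ⟨x, hx⟩ := congrArg Subtype.val (Additive.ofMul.injective h2)
        exact ((hτ ⟨x, hx⟩).symm.trans (by rw [← h3]; exact hτ ⟨y, hy⟩))
    · intro P
      induction P using Projectivization.ind with
      | h v hv =>
        set w := e.symm v with hw
        have hev : e w = v := e.apply_symm_apply v
        by_cases hc : w.1 = 0
        · have hw2 : w.2 ≠ 0 := fun h => hv (by rw [← hev, show w = 0 from Prod.ext hc h, map_zero])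
          obtain ⟨p, hp, hU, -⟩ := M.exists_U hK (gv_mem w.2) fun e' => hw2 ((gv_one _).1 e')
          obtain ⟨r, hr⟩ := hline ⟨p, hp⟩ w.2 hU
          have hr0 : r ≠ 0 := fun h => hw2 (by rw [hr, h, zero_smul])
          refine ⟨p, (Projectivization.mk_eq_mk_iff' F _ _ _ _).2 ⟨r⁻¹, ?_⟩⟩
          rw [← hev, ← map_smul]
          congr 1
          simp only [ψ, dif_pos hp]
          refine Prod.ext ?_ ?_
          · change r⁻¹ * w.1 = 0
            rw [hc, mul_zero]
          · change r⁻¹ • w.2 = u ⟨p, hp⟩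
            rw [hr, smul_smul, inv_mul_cancel₀ hr0, one_smul]
        · set x := gv (w.1⁻¹ • w.2) • o with hx
          have hxB : ¬ M.I x B := fun h => by
            rw [hx, M.inv_iff, inv_smul_eq_iff.2 (M.K_fix (M.T_K hK (gv_mem _))).symm] at h
            exact ho h
          refine ⟨x, (Projectivization.mk_eq_mk_iff' F _ _ _ _).2 ⟨w.1⁻¹, ?_⟩⟩
          rw [← hev, ← map_smul]
          congr 1
          simp only [ψ, dif_neg hxB]
          refine Prod.ext (inv_mul_cancel₀ hc) ?_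
          change w.1⁻¹ • w.2 = _
          have h1 : τ ⟨x, hxB⟩ = gv (w.1⁻¹ • w.2) := by
            refine (inv_mul_eq_one.1 (M.T_free hK (mul_mem (inv_mem (gv_mem _)) (hτT ⟨x, hxB⟩)) ho ?_)).symm
            rw [mul_smul, inv_smul_eq_iff, hτ ⟨x, hxB⟩]
          exact (Subtype.ext h1.symm : Additive.toMul (w.1⁻¹ • w.2) = (⟨τ ⟨x, hxB⟩, hτT _⟩ : ↥(M.T B)))
  refine ⟨d, F, iF, fF, Equiv.ofBijective φ0 hbij, hd2, M.coord_of_blocks _ fun X => ?_⟩
  suffices hL : ∃ L : (F × Additive ↥(M.T B)) →ₗ[F] F, L ≠ 0 ∧ ∀ x, M.I x X ↔ L (ψ x) = 0 by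
    obtain ⟨L, hL0, hL⟩ := hL
    obtain ⟨b, hb, hb0⟩ := exists_vec (L ∘ₗ e.symm.toLinearMap)
    refine ⟨b, hb0 fun h => hL0 (LinearMap.ext fun w => ?_), fun x => ?_⟩
    · have := LinearMap.congr_fun h (e w)
      simpa using this
    · rw [hL x, ← dot_rep (φ := Equiv.ofBijective φ0 hbij) (z := x) _ rfl, hb]
      simp
  by_cases hXB : X = B
  · refine ⟨LinearMap.fst F F _, fun h => one_ne_zero (α := F) (LinearMap.congr_fun h (1, 0)), fun x => ?_⟩
    rw [hXB, LinearMap.fst_apply]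
    simp only [ψ]
    split_ifs with hx <;> simp [hx]
  obtain ⟨x0, hx0X, hx0⟩ : ∃ x, M.I x X ∧ ¬ M.I x B := by
    by_contra h
    push Not at h
    exact hXB (M.block_ext h)
  let A : Submodule F (Additive ↥(M.T B)) :=
    { carrier := {v | gv v • X = X}
      add_mem' := fun {a b} ha hb => by
        change (gv a * gv b) • X = X
        rw [mul_smul, hb, ha]
      zero_mem' := one_smul G X
      smul_mem' := fun r v hv => by
        by_cases hv0 : v = 0
        · rw [hv0, smul_zero]; exact one_smul G X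
        obtain ⟨p, hp, hU, hpfix⟩ := M.exists_U hK (gv_mem v) fun e' => hv0 ((gv_one v).1 e')
        have h1 : r • v ∈ Ut ⟨p, hp⟩ := hFU ⟨p, hp⟩ r v hU
        exact h1.2 X (hpfix X hv) }
  have hAcard : Nat.card A = M.k - M.lam := by
    have h1 : Nat.card A = Nat.card ↥(M.T B ⊓ stabilizer G X) := Nat.card_congr
      { toFun := fun v => ⟨gv v.1, gv_mem _, v.2⟩
        invFun := fun t => ⟨Additive.ofMul (⟨t.1, t.2.1⟩ : ↥(M.T B)), t.2.2⟩
        left_inv := fun v => rfl
        right_inv := fun t => rfl }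
    have := M.card_stab_aux hK (Ne.symm hXB)
    omega
  have hA : A < ⊤ := by
    rw [lt_top_iff_ne_top]
    intro h
    have := hAcard
    rw [h, Nat.card_congr Submodule.topEquiv.toEquiv, hcardV, hT'] at this
    have h7 : (M.k - M.lam) * 2 ≤ (M.k - M.lam) * M.h B := Nat.mul_le_mul_left _ hh
    have := M.k_sub_pos
    omega
  obtain ⟨f, hf0, hfA⟩ := A.exists_le_ker_of_lt_top hA
  have hker : A = LinearMap.ker f := by
    refine Submodule.eq_of_le_of_finrank_le hfA ?_
    have h1 : Module.finrank F A + 1 = d := by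
      have h3 : M.h B ^ d = M.h B ^ (Module.finrank F A + 1) := by
        rw [← hVcard, hT', pow_succ, ← hAcard, Module.natCard_eq_pow_finrank (K := F) (V := A),
          Nat.card_eq_fintype_card, hFcard]
      exact (Nat.pow_right_injective hh h3).symm
    have h4 := Submodule.finrank_lt (fun h => hf0 (LinearMap.ker_eq_top.1 h) : LinearMap.ker f ≠ ⊤)
    omega
  have hmem : ∀ v, f v = 0 ↔ gv v • X = X := fun v => by
    rw [← LinearMap.mem_ker, ← hker]
    rfl
  set v0 : Additive ↥(M.T B) := Additive.ofMul (⟨τ ⟨x0, hx0⟩, hτT _⟩ : ↥(M.T B)) with hv0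
  refine ⟨f ∘ₗ LinearMap.snd F F _ - (f v0) • LinearMap.fst F F _, fun h => hf0 (LinearMap.ext fun v => ?_),
    fun x => ?_⟩
  · simpa using LinearMap.congr_fun h (0, v)
  simp only [LinearMap.sub_apply, LinearMap.comp_apply, LinearMap.snd_apply, LinearMap.smul_apply,
    LinearMap.fst_apply, smul_eq_mul, ψ]
  split_ifs with hx
  · simp only [mul_zero, sub_zero]
    rw [hmem]
    exact ⟨fun h => (hu ⟨x, hx⟩).2 X h, fun h => M.U_fix hK (hu ⟨x, hx⟩) (fun e' => hu0 _ ((gv_one _).1 e')) h⟩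
  · simp only [mul_one]
    rw [← map_sub, hmem]
    have hg : gv (Additive.ofMul (⟨τ ⟨x, hx⟩, hτT _⟩ : ↥(M.T B)) - v0) • x0 = x := by
      change (τ ⟨x, hx⟩ / τ ⟨x0, hx0⟩) • x0 = x
      rw [div_eq_mul_inv, mul_smul, inv_smul_eq_iff.2 (hτ ⟨x0, hx0⟩).symm, hτ]
    set t := gv (Additive.ofMul (⟨τ ⟨x, hx⟩, hτT _⟩ : ↥(M.T B)) - v0) with ht
    constructor
    · intro h
      by_cases h1 : t = 1
      · rw [h1, one_smul]
      obtain ⟨p, hp, hU, -⟩ := M.exists_U hK (gv_mem _) h1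
      have hp0 : p ≠ x0 := fun e' => hx0 (e' ▸ hp)
      have hxl : x ∈ M.line p x0 := fun Y h3 h4 => by
        have h5 := (M.smul_iff t x0 Y).2 h4
        rwa [hg, hU.2 Y h3] at h5
      have hne : x0 ≠ x := fun e' => h1 (M.T_free hK (gv_mem _) hx0 (by rw [hg, ← e']))
      have hl := M.line_eq hp0 (M.right_mem_line p x0) hxl hne
      exact hU.2 X ((hl ▸ M.left_mem_line p x0 : p ∈ M.line x0 x) X hx0X h)
    · intro h
      have h5 := (M.smul_iff t x0 X).2 hx0X
      rwa [hg, h] at h5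

theorem exists_coord_plane (h1 : M.lam = 1) :
    ∃ (m : ℕ) (F : Type) (_ : Field F) (_ : Fintype F) (φ : Ω ≃ Projectivization F (Fin (m + 1) → F)),
      2 ≤ m ∧ M.Coord φ := by
  classical
  have : Fintype Ω := Fintype.ofFinite _
  have : Fintype Λ := Fintype.ofFinite _
  letI memI : Membership Ω Λ := ⟨fun X x => M.I x X⟩
  have hk2 := M.k_sub_pos
  have hfl := M.count_flags
  rw [h1, one_mul] at hfl
  have hv : 2 * M.k ≤ Nat.card Ω := by
    have : M.k * 2 ≤ M.k * (M.k - 1) := Nat.mul_le_mul_left _ (by omega)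
    omega
  have huP : ∀ X Y : Λ, X ≠ Y → ∃ x, M.I x X ∧ M.I x Y := fun X Y h => by
    obtain ⟨x, hx⟩ : {x | M.I x X ∧ M.I x Y}.Nonempty := by
      rw [← Set.ncard_pos (Set.toFinite _), M.bl2 X Y h, h1]; exact one_pos
    exact ⟨x, hx⟩
  have huL : ∀ x y : Ω, x ≠ y → ∃ X, M.I x X ∧ M.I y X := fun x y h => by
    obtain ⟨X, hX⟩ : {X | M.I x X ∧ M.I y X}.Nonempty := by
      rw [← Set.ncard_pos (Set.toFinite _), M.pt2 x y h, h1]; exact one_pos
    exact ⟨X, hX⟩
  have huniq : ∀ {p₁ p₂ : Ω} {l₁ l₂ : Λ}, M.I p₁ l₁ → M.I p₂ l₁ → M.I p₁ l₂ → M.I p₂ l₂ →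
      p₁ = p₂ ∨ l₁ = l₂ := fun {p₁ p₂ l₁ l₂} a b c d => by
    by_contra h
    push Not at h
    exact h.2 ((Set.ncard_le_one (Set.toFinite _)).1
      (by rw [M.pt2 p₁ p₂ h.1, h1] : {X | M.I p₁ X ∧ M.I p₂ X}.ncard ≤ 1) l₁ ⟨a, b⟩ l₂ ⟨c, d⟩)
  letI PP : Configuration.ProjectivePlane Ω Λ :=
    { exists_point := fun l => M.exists_off l
      exists_line := fun p => by
        by_contra h
        push Not at h
        have := M.pt p
        rw [show {X | M.I p X} = Set.univ from Set.eq_univ_of_forall h, Set.ncard_univ, M.card_eq] at this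
        omega
      eq_or_eq := fun a b c d => huniq a b c d
      mkPoint := fun {l₁ l₂} h => (huP l₁ l₂ h).choose
      mkPoint_ax := fun {l₁ l₂} h => (huP l₁ l₂ h).choose_spec
      mkLine := fun {p₁ p₂} h => (huL p₁ p₂ h).choose
      mkLine_ax := fun {p₁ p₂} h => (huL p₁ p₂ h).choose_spec
      exists_config := by
        obtain ⟨X⟩ : Nonempty Λ := (Nat.card_pos_iff.1 (by rw [M.card_eq]; omega)).1
        obtain ⟨p₂, hp₂⟩ := M.exists_pt X
        obtain ⟨l₃, hl₃, hne⟩ := Set.exists_ne_of_one_lt_ncard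
          (by rw [M.pt p₂]; omega : 1 < {Y | M.I p₂ Y}.ncard) X
        obtain ⟨p₃, hp₃, hp₃'⟩ : ∃ p, M.I p X ∧ ¬ M.I p l₃ := by
          by_contra h
          push Not at h
          exact hne (M.block_ext h).symm
        obtain ⟨p₁, hp₁⟩ : ∃ p, p ∉ {x | M.I x X} ∪ {x | M.I x l₃} := by
          by_contra h
          push Not at h
          have h3 := Set.ncard_union_le {x | M.I x X} {x | M.I x l₃}
          have hne2 : p₂ ∈ {x | M.I x X} ∩ {x | M.I x l₃} := ⟨hp₂, hl₃⟩
          have h4 := Set.ncard_union_add_ncard_inter {x | M.I x X} {x | M.I x l₃}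
          have h5 := (Set.ncard_pos (Set.toFinite _)).2 ⟨p₂, hne2⟩
          rw [Set.eq_univ_of_forall h, Set.ncard_univ] at h4
          rw [M.bl, M.bl] at h4
          omega
        obtain ⟨l₁, hl₁⟩ : ∃ Y, Y ∉ {Y | M.I p₂ Y} ∪ {Y | M.I p₃ Y} := by
          by_contra h
          push Not at h
          have h4 := Set.ncard_union_add_ncard_inter {Y | M.I p₂ Y} {Y | M.I p₃ Y}
          have h5 := (Set.ncard_pos (Set.toFinite _)).2
            (⟨X, hp₂, hp₃⟩ : ({Y | M.I p₂ Y} ∩ {Y | M.I p₃ Y}).Nonempty)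
          rw [Set.eq_univ_of_forall h, Set.ncard_univ] at h4
          rw [M.pt, M.pt, M.card_eq] at h4
          omega
        exact ⟨p₁, p₂, p₃, l₁, X, l₃, fun h => hp₁ (Or.inl h), fun h => hp₁ (Or.inr h),
          fun h => hl₁ (Or.inl h), hp₂, hl₃, fun h => hl₁ (Or.inr h), hp₃, hp₃'⟩ }
  obtain ⟨F, iF, fF, φ, hl, -⟩ := Cfsg.Agent.S3732.result (P := Ω) (L := Λ) fun p₁ p₂ q₁ q₂ h h' => by
    obtain ⟨g, hg1, hg2⟩ := M.tt p₁ p₂ q₁ q₂ h h'
    exact ⟨MulAction.toPerm g, MulAction.toPerm g, fun p l => M.smul_iff g p l, hg1, hg2⟩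
  refine ⟨2, F, iF, fF, φ, le_rfl, M.coord_of_blocks φ fun X => ?_⟩
  obtain ⟨W, hW, hWX⟩ := hl X
  have hlt : W < ⊤ := by
    rw [lt_top_iff_ne_top]
    intro h
    rw [h, finrank_top, Module.finrank_pi, Fintype.card_fin] at hW
    omega
  obtain ⟨L, hL0, hL⟩ := W.exists_le_ker_of_lt_top hlt
  have hker : W = LinearMap.ker L := by
    refine Submodule.eq_of_le_of_finrank_le hL ?_
    have h4 := Submodule.finrank_lt (fun h => hL0 (LinearMap.ker_eq_top.1 h) : LinearMap.ker L ≠ ⊤)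
    rw [Module.finrank_pi, Fintype.card_fin] at h4
    omega
  obtain ⟨b, hb, hb0⟩ := exists_vec L
  refine ⟨b, hb0 hL0, fun x => ?_⟩
  rw [hb, ← LinearMap.mem_ker, ← hker]
  have h5 : (φ x).submodule = Submodule.span F {(φ x).rep} := by
    conv_lhs => rw [← Projectivization.mk_rep (φ x)]
    rw [Projectivization.submodule_mk]
  refine (hWX x).trans ?_
  rw [h5, Submodule.span_singleton_le_iff_mem]

theorem exists_coord :
    ∃ (m : ℕ) (F : Type) (_ : Field F) (_ : Fintype F) (φ : Ω ≃ Projectivization F (Fin (m + 1) → F)),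
      2 ≤ m ∧ M.Coord φ := by
  rcases (show M.lam = 1 ∨ 2 ≤ M.lam by have := M.lam_pos; omega) with h | h
  · exact M.exists_coord_plane hK h
  · exact M.exists_coord_big hK h

end Des

end Cfsg.Lib.Ito
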