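import Mathlib
import Cfsg.Agent.Lib.Recog.TwoOrbits

/-!
# Two-transitive symmetric designs: groups fixing a block pointwise

Counting lemmas and the basic facts on automorphisms fixing every point of a block.
-/

set_option autoImplicit false
set_option linter.style.haveILetI false
set_option linter.unusedSectionVars false

namespace Cfsg.Lib.Ito

open MulAction

/-- Double counting. -/
theorem count {α β : Type*} [Fintype α] [Fintype β] (r : α → β → Prop) :
    ∑ a, {b | r a b}.ncard = ∑ b, {a | r a b}.ncard := by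
  classical
  have h := Finset.sum_card_bipartiteAbove_eq_sum_card_bipartiteBelow (s := (Finset.univ : Finset α))
    (t := (Finset.univ : Finset β)) r
  simpa [Finset.bipartiteAbove, Finset.bipartiteBelow, Set.ncard_eq_toFinset_card',
    Set.toFinset_setOf] using h

/-- A sum with two values. -/
theorem sum_two {α : Type*} [Fintype α] (p : α → Prop) (f : α → ℕ) (m l : ℕ)
    (hp : ∀ a, p a → f a = m) (hn : ∀ a, ¬ p a → f a = l) :
    ∑ a, f a = {a | p a}.ncard * m + {a | ¬ p a}.ncard * l := by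
  classical
  rw [← Finset.sum_filter_add_sum_filter_not Finset.univ p f,
    Finset.sum_congr rfl (g := fun _ => m) (fun a ha => hp a (Finset.mem_filter.1 ha).2),
    Finset.sum_congr rfl (g := fun _ => l) (fun a ha => hn a (Finset.mem_filter.1 ha).2)]
  simp [Set.ncard_eq_toFinset_card', Set.toFinset_setOf]

variable (G Ω Λ : Type*) [Group G] [MulAction G Ω] [MulAction G Λ]

/-- A symmetric design with a group which is two-transitive on points and on blocks and transitive on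
flags and on antiflags. -/
structure Des where
  /-- Incidence. -/
  I : Ω → Λ → Prop
  /-- Block size. -/
  k : ℕ
  /-- Number of blocks through two points. -/
  lam : ℕ
  smul_iff : ∀ (g : G) (x : Ω) (X : Λ), I (g • x) (g • X) ↔ I x X
  card_eq : Nat.card Λ = Nat.card Ω
  pt : ∀ x, {X | I x X}.ncard = k
  bl : ∀ X, {x | I x X}.ncard = k
  pt2 : ∀ x y, x ≠ y → {X | I x X ∧ I y X}.ncard = lam
  bl2 : ∀ X Y, X ≠ Y → {x | I x X ∧ I x Y}.ncard = lam
  tt : ∀ x y x' y' : Ω, x ≠ y → x' ≠ y' → ∃ g : G, g • x = x' ∧ g • y = y'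
  tt' : ∀ X Y X' Y' : Λ, X ≠ Y → X' ≠ Y' → ∃ g : G, g • X = X' ∧ g • Y = Y'
  flag : ∀ x X y Y, I x X → I y Y → ∃ g : G, g • x = y ∧ g • X = Y
  anti : ∀ x X y Y, ¬ I x X → ¬ I y Y → ∃ g : G, g • x = y ∧ g • X = Y
  lam_pos : 0 < lam
  lam_lt : lam < k
  k_lt : k + 1 < Nat.card Ω

variable {G Ω Λ}

namespace Des

variable [Finite G] [Finite Ω] [Finite Λ] (M : Des G Ω Λ)

/-- The points of a block. -/
def P (X : Λ) : Set Ω := {x | M.I x X}

/-- The blocks through a point. -/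
def S (x : Ω) : Set Λ := {X | M.I x X}

/-- The points fixed by an element. -/
def fixP (g : G) : Set Ω := {x | g • x = x}

/-- The blocks fixed by an element. -/
def fixB (g : G) : Set Λ := {X | g • X = X}

theorem inv_iff (g : G) (x : Ω) (X : Λ) : M.I (g • x) X ↔ M.I x (g⁻¹ • X) := by
  conv_lhs => rw [← smul_inv_smul g X]
  exact M.smul_iff g x _

theorem count_flags : M.lam * (Nat.card Ω - 1) = M.k * (M.k - 1) := by
  classical
  have : Fintype Ω := Fintype.ofFinite _
  have : Fintype Λ := Fintype.ofFinite _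
  obtain ⟨x⟩ : Nonempty Ω := by
    have := M.k_lt
    exact (Nat.card_pos_iff.1 (by omega)).1
  have h := count (fun (y : Ω) (X : Λ) => y ≠ x ∧ M.I y X ∧ M.I x X)
  rw [sum_two (fun y => y ≠ x) _ M.lam 0 (fun y hy => ?_) (fun y hy => ?_),
    sum_two (fun X => M.I x X) _ (M.k - 1) 0 (fun X hX => ?_) (fun X hX => ?_), M.pt x] at h
  · have hc : {y : Ω | y ≠ x}.ncard = Nat.card Ω - 1 := by
      have : {y : Ω | y ≠ x} = {x}ᶜ := rfl
      rw [this, Set.ncard_compl, Set.ncard_singleton]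
    rw [hc] at h
    linarith
  · have : {y : Ω | y ≠ x ∧ M.I y X ∧ M.I x X} = {y | M.I y X} \ {x} := by
      ext y; simp [hX, and_comm]
    rw [this, Set.ncard_diff_singleton_of_mem (by exact hX), M.bl X]
  · simp [hX]
  · rw [← M.pt2 y x hy]
    congr 1
    ext X; simp [hy]
  · simp [hy]

theorem k_sub_pos : 2 ≤ M.k - M.lam := by
  by_contra h
  have h1 := M.lam_lt
  have h2 := M.count_flags
  have hk : M.k = M.lam + 1 := by omega
  rw [hk, Nat.add_sub_cancel, Nat.mul_comm] at h2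
  have := Nat.eq_of_mul_eq_mul_right M.lam_pos h2
  have := M.k_lt
  omega

theorem block_ext {X Y : Λ} (h : ∀ x, M.I x X → M.I x Y) : X = Y := by
  by_contra hne
  have h2 : {x | M.I x X ∧ M.I x Y} = {x | M.I x X} := by
    ext x; exact ⟨fun hx => hx.1, fun hx => ⟨hx, h x hx⟩⟩
  have := M.bl2 X Y hne
  rw [h2, M.bl X] at this
  have := M.lam_lt
  omega

theorem point_ext {x y : Ω} (h : ∀ X, M.I x X → M.I y X) : x = y := by
  by_contra hne
  have h2 : {X | M.I x X ∧ M.I y X} = {X | M.I x X} := by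
    ext X; exact ⟨fun hx => hx.1, fun hx => ⟨hx, h X hx⟩⟩
  have := M.pt2 x y hne
  rw [h2, M.pt x] at this
  have := M.lam_lt
  omega

include M in
/-- An element fixes as many points as blocks. -/
theorem card_fix (g : G) : (fixP g : Set Ω).ncard = (fixB g : Set Λ).ncard := by
  classical
  have : Fintype Ω := Fintype.ofFinite _
  have : Fintype Λ := Fintype.ofFinite _
  have h := count (fun (x : Ω) (X : Λ) => M.I x X ∧ M.I (g • x) X)
  rw [sum_two (fun x => g • x = x) _ M.k M.lam (fun x hx => ?_) (fun x hx => M.pt2 x _ (Ne.symm hx)),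
    sum_two (fun X => g • X = X) _ M.k M.lam (fun X hX => ?_) (fun X hX => ?_)] at h
  · have e1 : {a : Ω | ¬ g • a = a}.ncard = Nat.card Ω - (fixP g : Set Ω).ncard := Set.ncard_compl _
    have e2 : {a : Λ | ¬ g • a = a}.ncard = Nat.card Λ - (fixB g : Set Λ).ncard := Set.ncard_compl _
    rw [e1, e2, M.card_eq] at h
    change (fixP g : Set Ω).ncard * _ + _ = (fixB g : Set Λ).ncard * _ + _ at h
    have b1 : (fixP g : Set Ω).ncard ≤ Nat.card Ω := Set.ncard_le_card _
    have b2 : (fixB g : Set Λ).ncard ≤ Nat.card Ω := M.card_eq ▸ Set.ncard_le_card _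
    have hl := M.lam_lt
    zify [b1, b2] at h
    have h' : ((fixP g : Set Ω).ncard - ((fixB g : Set Λ).ncard : ℤ)) * ((M.k : ℤ) - M.lam) = 0 := by
      linear_combination h
    have := (mul_eq_zero.1 h').resolve_right (by omega)
    omega
  · rw [← M.bl X]
    congr 1; ext x
    simp only [M.inv_iff]
    rw [show g⁻¹ • X = X by rw [inv_smul_eq_iff, hX]]
    simp
  · have hne : X ≠ g⁻¹ • X := fun e => hX (by rw [eq_inv_smul_iff] at e; exact e)
    rw [← M.bl2 X _ hne]
    congr 1; ext x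
    simp only [M.inv_iff]
  · rw [← M.pt x]; simp only [hx, and_self]

/-- The pointwise stabiliser of a block. -/
def K (X : Λ) : Subgroup G where
  carrier := {g | ∀ x, M.I x X → g • x = x}
  one_mem' := fun x _ => one_smul G x
  mul_mem' := fun {a b} ha hb x hx => by rw [mul_smul, hb x hx, ha x hx]
  inv_mem' := fun {a} ha x hx => by rw [inv_smul_eq_iff, ha x hx]

theorem mem_K {g : G} {X : Λ} : g ∈ M.K X ↔ ∀ x, M.I x X → g • x = x := Iff.rfl

theorem K_fix {g : G} {X : Λ} (hg : g ∈ M.K X) : g • X = X := by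
  refine (M.block_ext fun x hx => ?_).symm
  rw [← hg x hx, M.smul_iff]
  exact hx

/-- A block through a moved point and its image is fixed. -/
theorem move_fix {g : G} {X Y : Λ} (hg : g ∈ M.K X) {x : Ω} (hx : g • x ≠ x) (h1 : M.I x Y)
    (h2 : M.I (g • x) Y) : g • Y = Y := by
  by_contra hne
  have hYX : Y ≠ X := fun e => hx (hg x (e ▸ h1))
  have hsub : {z | M.I z Y ∧ M.I z X} ⊆ {z | M.I z Y ∧ M.I z (g • Y)} := fun z hz =>
    ⟨hz.1, by rw [← hg z hz.2, M.smul_iff]; exact hz.1⟩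
  have heq := Set.eq_of_subset_of_ncard_le hsub (by rw [M.bl2 Y X hYX, M.bl2 Y _ (Ne.symm hne)])
  have hmem : g • x ∈ {z | M.I z Y ∧ M.I z (g • Y)} := ⟨h2, (M.smul_iff g x Y).2 h1⟩
  rw [← heq] at hmem
  exact hx (smul_left_cancel g (hg _ hmem.2))

/-- Through a moved point there are exactly `lam` fixed blocks. -/
theorem moved_card {g : G} {X : Λ} (hg : g ∈ M.K X) {x : Ω} (hx : g • x ≠ x) :
    {Y | M.I x Y ∧ g • Y = Y}.ncard = M.lam := by
  rw [← M.pt2 x _ (Ne.symm hx)]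
  congr 1; ext Y
  refine ⟨fun h => ⟨h.1, ?_⟩, fun h => ⟨h.1, M.move_fix hg hx h.1 h.2⟩⟩
  rw [← h.2]
  exact (M.smul_iff g x Y).2 h.1

/-- Every block through a fixed point off the axis is fixed. -/
theorem fixed_off {g : G} {X Y : Λ} (hg : g ∈ M.K X) {z : Ω} (hz : g • z = z) (hzX : ¬ M.I z X)
    (hzY : M.I z Y) : g • Y = Y := by
  by_contra hne
  have hYX : Y ≠ X := fun e => hzX (e ▸ hzY)
  have hsub : {w | M.I w Y ∧ M.I w X} ⊆ {w | M.I w Y ∧ M.I w (g • Y)} := fun w hw =>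
    ⟨hw.1, by rw [← hg w hw.2, M.smul_iff]; exact hw.1⟩
  have heq := Set.eq_of_subset_of_ncard_le hsub (by rw [M.bl2 Y X hYX, M.bl2 Y _ (Ne.symm hne)])
  have hmem : z ∈ {w | M.I w Y ∧ M.I w (g • Y)} := by
    refine ⟨hzY, ?_⟩
    have := (M.smul_iff g z Y).2 hzY
    rwa [hz] at this
  rw [← heq] at hmem
  exact hzX hmem.2

variable [FaithfulSMul G Ω]

theorem exists_moved {g : G} (hg : g ≠ 1) : ∃ y : Ω, g • y ≠ y := by
  by_contra h
  push Not at h
  exact hg (eq_of_smul_eq_smul fun y => by rw [h y, one_smul])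

/-- At most one point off the axis is fixed. -/
theorem fixed_unique {g : G} {X : Λ} (hg : g ∈ M.K X) (hg1 : g ≠ 1) {z z' : Ω} (hz : g • z = z)
    (hz' : g • z' = z') (hzX : ¬ M.I z X) (hz'X : ¬ M.I z' X) : z = z' := by
  by_contra hne
  have key : ∀ w y, g • w = w → ¬ M.I w X → g • y ≠ y →
      {Y | M.I y Y ∧ M.I w Y} = {Y | M.I y Y ∧ g • Y = Y} := fun w y hw hwX hy => by
    refine Set.eq_of_subset_of_ncard_le (fun Y hY => ⟨hY.1, M.fixed_off hg hw hwX hY.2⟩) ?_
    rw [M.moved_card hg hy, M.pt2 y w (fun e => hy (e ▸ hw))]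
  have all : ∀ w, g • w = w → ¬ M.I w X → z ≠ w → ∀ y, g • y ≠ y → ∀ Y, M.I z Y → M.I w Y → M.I y Y := by
    intro w hw hwX hzw y hy Y h1 h2
    have hsub : {Y | M.I y Y ∧ M.I z Y} ⊆ {Y | M.I z Y ∧ M.I w Y} := fun E hE => by
      have hE' : E ∈ {Y | M.I y Y ∧ M.I w Y} := by
        rw [key w y hw hwX hy, ← key z y hz hzX hy]; exact hE
      exact ⟨hE.2, hE'.2⟩
    have heq := Set.eq_of_subset_of_ncard_le hsub
      (by rw [M.pt2 z w hzw, M.pt2 y z (fun e => hy (e ▸ hz))])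
    have : Y ∈ {Y | M.I y Y ∧ M.I z Y} := heq ▸ (show Y ∈ {Y | M.I z Y ∧ M.I w Y} from ⟨h1, h2⟩)
    exact this.1
  obtain ⟨E, hE, hE'⟩ : ∃ E ∈ {Y | M.I z Y}, E ∉ {Y | M.I z Y ∧ M.I z' Y} :=
    Set.exists_mem_notMem_of_ncard_lt_ncard (by rw [M.pt2 z z' hne, M.pt]; exact M.lam_lt)
  have hE'' : ¬ M.I z' E := fun h => hE' ⟨hE, h⟩
  have hEX : E ≠ X := fun e => hzX (e ▸ hE)
  have hbig : 1 < ({x | M.I x E} \ {x | M.I x E ∧ M.I x X}).ncard := by
    rw [Set.ncard_sdiff (fun x hx => hx.1), M.bl, M.bl2 E X hEX]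
    have := M.k_sub_pos
    omega
  obtain ⟨w, hw, hwz⟩ := Set.exists_ne_of_one_lt_ncard hbig z
  have hwX : ¬ M.I w X := fun h => hw.2 ⟨hw.1, h⟩
  have hmoved : ∀ y, g • y ≠ y → ¬ M.I y E := fun y hy hyE => by
    have h : E ∈ {Y | M.I y Y ∧ M.I z' Y} := by
      rw [key z' y hz' hz'X hy, ← key z y hz hzX hy]; exact ⟨hyE, hE⟩
    exact hE'' h.2
  obtain ⟨y, hy⟩ := exists_moved hg1 (Ω := Ω)
  by_cases hwf : g • w = w
  · exact hmoved y hy (all w hwf hwX (Ne.symm hwz) y hy E hE hw.1)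
  · exact hmoved w hwf hw.1

include M in
/-- The faithfulness on blocks. -/
theorem eq_one_of_fix_blocks {g : G} (h : ∀ X : Λ, g • X = X) : g = 1 := by
  refine eq_of_smul_eq_smul fun x : Ω => ?_
  rw [one_smul]
  refine M.point_ext fun X hX => ?_
  rw [M.inv_iff, inv_smul_eq_iff.2 (h X).symm] at hX
  exact hX

end Des

end Cfsg.Lib.Ito
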