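import Cfsg.Agent.Lib.Ito.Lines
import Cfsg.Agent.Lib.Linear.SLBasic

/-!
# From coordinates to the projective special linear group
-/

set_option autoImplicit false
set_option linter.style.haveILetI false
set_option linter.unusedSectionVars false

namespace Cfsg.Lib.Ito

open MulAction Matrix

variable {G Ω Λ : Type*} [Group G] [MulAction G Ω] [MulAction G Λ]
variable [Finite G] [Finite Ω] [Finite Λ] [FaithfulSMul G Ω]

namespace Des

variable (M : Des G Ω Λ) {F : Type} [Field F] {n : ℕ}

/-- Coordinates carrying lines to lines and blocks to hyperplanes. -/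
structure Coord (φ : Ω ≃ Projectivization F (Fin n → F)) : Prop where
  line_iff : ∀ p x z, p ≠ x → (z ∈ M.line p x ↔ (φ z).rep ∈ Submodule.span F {(φ p).rep, (φ x).rep})
  block : ∀ X, ∃ a : Fin n → F, a ≠ 0 ∧ ∀ x, M.I x X ↔ a ⬝ᵥ (φ x).rep = 0
  all : ∀ a : Fin n → F, a ≠ 0 → ∃ X, ∀ x, M.I x X ↔ a ⬝ᵥ (φ x).rep = 0

theorem exists_scalar (φ : Ω ≃ Projectivization F (Fin n → F)) {x : Ω} {v : Fin n → F} (hv : v ≠ 0)
    (h : φ x = Projectivization.mk F v hv) : ∃ c : F, c ≠ 0 ∧ v = c • (φ x).rep := by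
  obtain ⟨c, hc⟩ := (Projectivization.mk_eq_mk_iff F v (φ x).rep hv (Projectivization.rep_nonzero _)).1
    (by rw [Projectivization.mk_rep, h])
  exact ⟨c, c.ne_zero, hc.symm⟩

theorem smul_rep_mem {φ : Ω ≃ Projectivization F (Fin n → F)} {z : Ω} {v : Fin n → F} (hv : v ≠ 0)
    (h : φ z = Projectivization.mk F v hv) (S : Submodule F (Fin n → F)) : v ∈ S ↔ (φ z).rep ∈ S := by
  obtain ⟨c, hc, rfl⟩ := exists_scalar φ hv h
  exact S.smul_mem_iff hc

theorem dot_rep {φ : Ω ≃ Projectivization F (Fin n → F)} {z : Ω} {v : Fin n → F} (hv : v ≠ 0)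
    (h : φ z = Projectivization.mk F v hv) (a : Fin n → F) : a ⬝ᵥ v = 0 ↔ a ⬝ᵥ (φ z).rep = 0 := by
  obtain ⟨c, hc, rfl⟩ := exists_scalar φ hv h
  rw [dotProduct_smul, smul_eq_mul, mul_eq_zero, or_iff_right hc]

/-- Every vector off a hyperplane has a normalised representative. -/
theorem normalise (φ : Ω ≃ Projectivization F (Fin n → F)) {a : Fin n → F} {x : Ω}
    (hx : a ⬝ᵥ (φ x).rep ≠ 0) :
    ∃ (v : Fin n → F) (hv : v ≠ 0), a ⬝ᵥ v = 1 ∧ φ x = Projectivization.mk F v hv := by
  refine ⟨(a ⬝ᵥ (φ x).rep)⁻¹ • (φ x).rep, smul_ne_zero (inv_ne_zero hx) (Projectivization.rep_nonzero _),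
    by rw [dotProduct_smul, smul_eq_mul, inv_mul_cancel₀ hx], ?_⟩
  conv_lhs => rw [← Projectivization.mk_rep (φ x)]
  rw [Projectivization.mk_eq_mk_iff']
  exact ⟨a ⬝ᵥ (φ x).rep, by rw [smul_smul, mul_inv_cancel₀ hx, one_smul]⟩

variable (hK : ∃ X, M.K X ≠ ⊥) {φ : Ω ≃ Projectivization F (Fin n → F)} (hφ : M.Coord φ) (hn : 3 ≤ n)

include hK hφ hn

/-- An elation is a transvection in coordinates. -/
theorem elation_formula {X : Λ} {a : Fin n → F} (ha0 : a ≠ 0) (ha : ∀ x, M.I x X ↔ a ⬝ᵥ (φ x).rep = 0)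
    {g : G} (hg : g ∈ M.T X) (hg1 : g ≠ 1) :
    ∃ w, a ⬝ᵥ w = 0 ∧ ∀ (z : Ω) (v : Fin n → F) (hv : v ≠ 0), φ z = Projectivization.mk F v hv →
      ∃ hv' : v + (a ⬝ᵥ v) • w ≠ 0, φ (g • z) = Projectivization.mk F (v + (a ⬝ᵥ v) • w) hv' := by
  classical
  obtain ⟨p, hpX, hp⟩ := M.exists_centre hK hg hg1
  have hoff : ∀ {z : Ω}, ¬ M.I z X → ¬ M.I (g • z) X := fun {z} hz h => by
    rw [M.inv_iff, inv_smul_eq_iff.2 (M.K_fix (M.T_K hK hg)).symm] at h
    exact hz h
  have hgline : ∀ z, g • z ∈ M.line p z := fun z Y h1 h2 => by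
    rw [← (hp Y).2 h1]
    exact (M.smul_iff g z Y).2 h2
  obtain ⟨x, hx⟩ := M.exists_off X
  obtain ⟨v0, hv0, ha0', hφx⟩ := normalise φ (mt (ha x).2 hx)
  obtain ⟨v1, hv1, ha1, hφgx⟩ := normalise φ (mt (ha (g • x)).2 (hoff hx))
  set u := (φ p).rep with hu
  have hau : a ⬝ᵥ u = 0 := (ha p).1 hpX
  have hu0 : u ≠ 0 := Projectivization.rep_nonzero _
  have span_u : ∀ (z : Ω) (v : Fin n → F) (hv : v ≠ 0), φ z = Projectivization.mk F v hv → a ⬝ᵥ v = 1 →
      ∃ (γ : F) (hv' : v + γ • u ≠ 0), φ (g • z) = Projectivization.mk F (v + γ • u) hv' := by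
    intro z v hv hz hav
    have hzX : ¬ M.I z X := fun h => by
      rw [ha, ← dot_rep hv hz, hav] at h
      exact one_ne_zero h
    obtain ⟨v2, hv2, hav2, hz2⟩ := normalise φ (mt (ha (g • z)).2 (hoff hzX))
    have h1 := (hφ.line_iff p z (g • z) (fun e => hzX (e ▸ hpX))).1 (hgline z)
    rw [← smul_rep_mem hv2 hz2, Submodule.mem_span_pair, ← hu] at h1
    obtain ⟨α, β, hαβ⟩ := h1
    obtain ⟨c, hc, hcv⟩ := exists_scalar φ hv hz
    have hβ : β = c := by
      have h2 := congrArg (fun e => a ⬝ᵥ e) hαβ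
      simp only [dotProduct_add, dotProduct_smul, smul_eq_mul, hau, mul_zero, zero_add, hav2] at h2
      rw [hcv, dotProduct_smul, smul_eq_mul] at hav
      exact mul_right_cancel₀ (fun h0 => by rw [h0, mul_zero] at hav; exact zero_ne_one hav) (h2.trans hav.symm)
    have e : v2 = v + α • u := by rw [← hαβ, hβ, hcv, add_comm]
    exact ⟨α, e ▸ hv2, by subst e; exact hz2⟩
  obtain ⟨γ0, hne0, hgx⟩ := span_u x v0 hv0 hφx ha0'
  refine ⟨γ0 • u, by rw [dotProduct_smul, hau, smul_zero], ?_⟩
  have line_image : ∀ (b z : Ω) (vb v : Fin n → F) (hvb : vb ≠ 0) (hv : v ≠ 0),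
      φ b = Projectivization.mk F vb hvb → φ z = Projectivization.mk F v hv →
      a ⬝ᵥ vb = 1 → a ⬝ᵥ v = 1 → (∀ s : F, v - vb ≠ s • u) →
      (∃ h : vb + γ0 • u ≠ 0, φ (g • b) = Projectivization.mk F (vb + γ0 • u) h) →
      ∃ h : v + γ0 • u ≠ 0, φ (g • z) = Projectivization.mk F (v + γ0 • u) h := by
    rintro b z vb v hvb hv hb hz hab haz hind ⟨hgb', hgb⟩
    obtain ⟨γ, hv', hgz⟩ := span_u z v hv hz haz
    suffices hγ : γ = γ0 by subst hγ; exact ⟨hv', hgz⟩
    have hd0 : v - vb ≠ 0 := fun e => hind 0 (by rw [e, zero_smul])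
    set q := φ.symm (Projectivization.mk F _ hd0) with hq
    have hφq : φ q = Projectivization.mk F _ hd0 := φ.apply_symm_apply _
    have hqX : M.I q X := by
      rw [ha, ← dot_rep hd0 hφq, dotProduct_sub, haz, hab, sub_self]
    have hqb : q ≠ b := fun e => by
      have h := (ha q).1 hqX
      rw [e, ← dot_rep hvb hb, hab] at h
      exact one_ne_zero h
    have hmem : z ∈ M.line q b := by
      rw [hφ.line_iff q b z hqb, ← smul_rep_mem hv hz]
      have e : v = (v - vb) + vb := by abel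
      rw [e]
      exact add_mem ((smul_rep_mem hd0 hφq _).2 (Submodule.subset_span (Or.inl rfl)))
        ((smul_rep_mem hvb hb _).2 (Submodule.subset_span (Or.inr rfl)))
    have himg : g • z ∈ M.line q (g • b) := by
      have : g • z ∈ (g • ·) '' M.line q b := ⟨z, hmem, rfl⟩
      rwa [M.line_smul, M.T_K hK hg q hqX] at this
    rw [hφ.line_iff q (g • b) (g • z) (fun e => hqb (by
      have := e.symm.trans (M.T_K hK hg q hqX).symm
      exact (smul_left_cancel g this).symm)), ← smul_rep_mem hv' hgz, Submodule.mem_span_pair] at himg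
    obtain ⟨c1, -, hc1⟩ := exists_scalar φ hd0 hφq
    obtain ⟨c2, hc2, hc2'⟩ := exists_scalar φ hgb' hgb
    obtain ⟨α, β, hαβ⟩ := himg
    have hd : a ⬝ᵥ (φ q).rep = 0 := (ha q).1 hqX
    have hβ : β = c2 := by
      have h2 := congrArg (fun e => a ⬝ᵥ e) hαβ
      have h3 := congrArg (fun e => a ⬝ᵥ e) hc2'
      simp only [dotProduct_add, dotProduct_smul, smul_eq_mul, hau, mul_zero, add_zero, haz, hab, hd,
        zero_add] at h2 h3
      exact mul_right_cancel₀ (fun h0 => by rw [h0, mul_zero] at h3; exact one_ne_zero h3) (h2.trans h3)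
    rw [hβ, ← hc2'] at hαβ
    have hc10 : c1 ≠ 0 := fun h0 => hd0 (by rw [hc1, h0, zero_smul])
    have e2 : (α / c1 - 1) • (v - vb) = (γ - γ0) • u := by
      have h4 : (α / c1) • (v - vb) = α • (φ q).rep := by rw [hc1, smul_smul, div_mul_cancel₀ α hc10]
      rw [sub_smul, one_smul, h4, sub_smul]
      have e5 : α • (φ q).rep = v + γ • u - (vb + γ0 • u) := eq_sub_of_add_eq hαβ
      rw [e5]
      abel
    by_cases hα : α / c1 - 1 = 0
    · rw [hα, zero_smul] at e2
      exact sub_eq_zero.1 ((smul_eq_zero.1 e2.symm).resolve_right hu0)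
    · refine absurd ?_ (hind ((α / c1 - 1)⁻¹ * (γ - γ0)))
      rw [← smul_smul, ← e2, smul_smul, inv_mul_cancel₀ hα, one_smul]
  have hbase : ∃ h : v0 + γ0 • u ≠ 0, φ (g • x) = Projectivization.mk F (v0 + γ0 • u) h := ⟨hne0, hgx⟩
  have main : ∀ (z : Ω) (v : Fin n → F) (hv : v ≠ 0), φ z = Projectivization.mk F v hv → a ⬝ᵥ v = 1 →
      ∃ h : v + γ0 • u ≠ 0, φ (g • z) = Projectivization.mk F (v + γ0 • u) h := by
    intro z v hv hz hav
    by_cases hind : ∀ s : F, v - v0 ≠ s • u
    · exact line_image x z v0 v hv0 hv hφx hz ha0' hav hind hbase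
    push Not at hind
    obtain ⟨s, hs⟩ := hind
    obtain ⟨d, hd, hdu⟩ : ∃ d, a ⬝ᵥ d = 0 ∧ ∀ t : F, d ≠ t • u := by
      let L : (Fin n → F) →ₗ[F] F :=
        { toFun := fun v => a ⬝ᵥ v
          map_add' := fun x y => dotProduct_add a x y
          map_smul' := fun c x => dotProduct_smul c a x }
      have h1 := LinearMap.finrank_range_add_finrank_ker L
      rw [Module.finrank_pi, Fintype.card_fin] at h1
      have h2 : Module.finrank F (LinearMap.range L) ≤ 1 :=
        (Submodule.finrank_le _).trans (Module.finrank_self F).le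
      by_contra hall
      push Not at hall
      have h3 : LinearMap.ker L ≤ Submodule.span F {u} := fun d hd => by
        obtain ⟨t, ht⟩ := hall d hd
        exact Submodule.mem_span_singleton.2 ⟨t, ht.symm⟩
      have h4 := Submodule.finrank_mono h3
      rw [finrank_span_singleton hu0] at h4
      omega
    have hy0 : v0 + d ≠ 0 := fun e => by
      have := congrArg (fun e => a ⬝ᵥ e) e
      simp [dotProduct_add, ha0', hd] at this
    set y := φ.symm (Projectivization.mk F _ hy0) with hy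
    have hφy : φ y = Projectivization.mk F _ hy0 := φ.apply_symm_apply _
    have hay : a ⬝ᵥ (v0 + d) = 1 := by rw [dotProduct_add, ha0', hd, add_zero]
    refine line_image y z (v0 + d) v hy0 hv hφy hz hay hav (fun t ht => hdu (s - t) ?_)
      (line_image x y v0 (v0 + d) hv0 hy0 hφx hφy ha0' hay (fun t ht => hdu t ?_) hbase)
    · rw [sub_smul, ← hs, ← ht]; abel
    · rw [← ht]; abel
  intro z v hv hz
  by_cases hc : a ⬝ᵥ v = 0
  · have hzX : M.I z X := by rw [ha, ← dot_rep hv hz, hc]
    refine ⟨by simpa [hc] using hv, ?_⟩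
    rw [M.T_K hK hg z hzX, hz]
    congr 1
    simp [hc]
  · have hv' : (a ⬝ᵥ v)⁻¹ • v ≠ 0 := smul_ne_zero (inv_ne_zero hc) hv
    obtain ⟨h1, h2⟩ := main z _ hv'
      (by rw [hz, Projectivization.mk_eq_mk_iff']; exact ⟨a ⬝ᵥ v, by rw [smul_smul, mul_inv_cancel₀ hc, one_smul]⟩)
      (by rw [dotProduct_smul, smul_eq_mul, inv_mul_cancel₀ hc])
    have e : v + (a ⬝ᵥ v) • (γ0 • u) = (a ⬝ᵥ v) • ((a ⬝ᵥ v)⁻¹ • v + γ0 • u) := by
      rw [smul_add, smul_smul (a ⬝ᵥ v) _ v, mul_inv_cancel₀ hc, one_smul]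
    refine ⟨e ▸ smul_ne_zero hc h1, ?_⟩
    rw [h2, Projectivization.mk_eq_mk_iff']
    refine ⟨(a ⬝ᵥ v)⁻¹, ?_⟩
    rw [e, smul_smul, inv_mul_cancel₀ hc, one_smul]

omit hK hφ hn

/-- The action in coordinates. -/
def rho (φ : Ω ≃ Projectivization F (Fin n → F)) : G →* Equiv.Perm (Projectivization F (Fin n → F)) :=
  φ.permCongrHom.toMonoidHom.comp (MulAction.toPermHom G Ω)

theorem rho_apply (φ : Ω ≃ Projectivization F (Fin n → F)) (g : G) (P : Projectivization F (Fin n → F)) :
    rho φ g P = φ (g • φ.symm P) := rfl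

theorem rho_injective (φ : Ω ≃ Projectivization F (Fin n → F)) :
    Function.Injective (rho (G := G) φ) := by
  intro g h e
  refine eq_of_smul_eq_smul fun x : Ω => φ.injective ?_
  have := Equiv.Perm.congr_fun e (φ x)
  rwa [rho_apply, rho_apply, φ.symm_apply_apply] at this

include hK hφ hn

/-- The conclusion in coordinates. -/
theorem exists_psl [Finite F] :
    ∃ N : Subgroup G, N.Normal ∧ Nonempty (N ≃* Matrix.ProjectiveSpecialLinearGroup (Fin n) F) ∧
      Subgroup.centralizer (N : Set G) = ⊥ := by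
  classical
  set N : Subgroup G := ⨆ X : Λ, M.T X with hN
  refine ⟨N, ?_, ?_, ?_⟩
  · refine ⟨fun t ht g => ?_⟩
    have : N ≤ N.comap (MulAut.conj g).toMonoidHom := iSup_le fun X s hs =>
      (le_iSup M.T (g • X) : M.T (g • X) ≤ N) (M.T_conj hK g hs)
    exact this ht
  swap
  · refine (Subgroup.eq_bot_iff_forall _).2 fun c hc => M.eq_one_of_fix_blocks fun X => ?_
    obtain ⟨⟨t, ht⟩, ht1'⟩ := Subgroup.ne_bot_iff_exists_ne_one.1 (M.T_ne hK X)
    have ht1 : t ≠ 1 := fun e => ht1' (Subtype.ext e)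
    refine (M.block_ext fun x hx => ?_).symm
    rw [← smul_inv_smul c x, M.smul_iff]
    by_contra h
    refine M.T_moved hK ht ht1 h ?_
    rw [← mul_smul, Subgroup.mem_centralizer_iff.1 (inv_mem hc) t ((le_iSup M.T X : M.T X ≤ N) ht),
      mul_smul, M.T_K hK ht x hx]
  · set R : Subgroup (Equiv.Perm (Projectivization F (Fin n → F))) :=
      (Projectivization.PSLAction.toPermHom (K := F) (ι := Fin n)).range with hR
    have hSL : ∀ A : SpecialLinearGroup (Fin n) F,
        (MulAction.toPerm A : Equiv.Perm (Projectivization F (Fin n → F))) ∈ R := fun A =>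
      ⟨QuotientGroup.mk A, rfl⟩
    have hgen : ∀ (X : Λ) (g : G), g ∈ M.T X → rho φ g ∈ R := by
      intro X g hg
      by_cases hg1 : g = 1
      · rw [hg1, map_one]; exact one_mem R
      obtain ⟨a, ha0, ha⟩ := hφ.block X
      obtain ⟨w, haw, hform⟩ := M.elation_formula hK hφ hn ha0 ha hg hg1
      have hdet : (1 + Matrix.vecMulVec w a).det = 1 := by
        rw [Matrix.vecMulVec_eq Unit, Matrix.det_one_add_replicateCol_mul_replicateRow, haw, add_zero]
      obtain ⟨A, hA⟩ : ∃ A : SpecialLinearGroup (Fin n) F, (A : Matrix (Fin n) (Fin n) F) = 1 + Matrix.vecMulVec w a :=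
        ⟨⟨_, hdet⟩, rfl⟩
      convert hSL A using 1
      refine Equiv.ext fun P => ?_
      induction P using Projectivization.ind with
      | h v hv =>
        obtain ⟨hv', h⟩ := hform (φ.symm (Projectivization.mk F v hv)) v hv (φ.apply_symm_apply _)
        rw [rho_apply, h, MulAction.toPerm_apply, Projectivization.matrixSpecialLinearGroup_smul_def,
          Projectivization.smul_mk]
        congr 1
        change _ = (A : Matrix (Fin n) (Fin n) F) *ᵥ v
        rw [hA, Matrix.add_mulVec, Matrix.one_mulVec, Matrix.vecMulVec_mulVec]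
        simp [Pi.smul_def, mul_comm]
    have hmap : N.map (rho φ) = R := by
      apply le_antisymm
      · rw [Subgroup.map_le_iff_le_comap]
        exact iSup_le fun X g hg => hgen X g hg
      rw [hR, MonoidHom.range_eq_map,
        ← Subgroup.map_top_of_surjective _ (QuotientGroup.mk'_surjective
          (Subgroup.center (SpecialLinearGroup (Fin n) F))),
        ← Cfsg.Lib.Linear.closure_transvection_eq_top, Subgroup.map_map, MonoidHom.map_closure,
        Subgroup.closure_le]
      rintro _ ⟨A, ⟨i, j, hij, c, rfl⟩, rfl⟩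
      change (MulAction.toPerm (SpecialLinearGroup.transvection hij c) :
        Equiv.Perm (Projectivization F (Fin n → F))) ∈ N.map (rho φ)
      by_cases hc : c = 0
      · rw [hc, SpecialLinearGroup.transvection_coeff_zero]
        convert one_mem (N.map (rho φ))
        exact Equiv.ext fun P => (one_smul (SpecialLinearGroup (Fin n) F) P)
      obtain ⟨X, hX⟩ := hφ.all (Pi.single j 1) (Pi.single_ne_zero_iff.2 one_ne_zero)
      have he : (Pi.single j (1 : F) : Fin n → F) ≠ 0 := Pi.single_ne_zero_iff.2 one_ne_zero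
      have he' : (Pi.single j (1 : F) + c • Pi.single i 1 : Fin n → F) ≠ 0 := fun e => by
        have := congrFun e j
        simp [Pi.single_eq_of_ne hij.symm, Pi.single_eq_of_ne hij] at this
      set x := φ.symm (Projectivization.mk F _ he) with hx
      set y := φ.symm (Projectivization.mk F _ he') with hy
      have hφx : φ x = Projectivization.mk F _ he := φ.apply_symm_apply _
      have hφy : φ y = Projectivization.mk F _ he' := φ.apply_symm_apply _
      have hxX : ¬ M.I x X := by
        rw [hX, ← dot_rep he hφx]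
        simp
      have hyX : ¬ M.I y X := by
        rw [hX, ← dot_rep he' hφy]
        simp [Pi.single_eq_of_ne hij.symm, Pi.single_eq_of_ne hij]
      obtain ⟨g, hg, hgx⟩ := M.T_transitive hK hxX hyX
      have hg1 : g ≠ 1 := fun e => by
        rw [e, one_smul] at hgx
        have := congrArg φ hgx
        rw [hφx, hφy, Projectivization.mk_eq_mk_iff'] at this
        obtain ⟨r, hr⟩ := this
        have h1 := congrFun hr j
        have h2 := congrFun hr i
        simp [Pi.single_eq_of_ne hij, Pi.single_eq_of_ne hij.symm] at h1 h2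
        simp [h1] at h2
        exact hc h2
      obtain ⟨w, haw, hform⟩ := M.elation_formula hK hφ hn (Pi.single_ne_zero_iff.2 one_ne_zero) hX hg hg1
      have hw : w = c • Pi.single i 1 := by
        obtain ⟨h1, h2⟩ := hform x _ he hφx
        rw [hgx, hφy, Projectivization.mk_eq_mk_iff'] at h2
        obtain ⟨r, hr⟩ := h2
        simp only [single_dotProduct, Pi.single_eq_same, one_mul, one_smul] at hr h1
        have hj := congrFun hr j
        have hwj : w j = 0 := by simpa using haw
        simp [hwj, Pi.single_eq_of_ne hij.symm] at hj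
        rw [hj, one_smul] at hr
        exact add_left_cancel hr
      refine ⟨g, (le_iSup M.T X : M.T X ≤ N) hg, Equiv.ext fun P => ?_⟩
      induction P using Projectivization.ind with
      | h v hv =>
        obtain ⟨hv', h⟩ := hform (φ.symm (Projectivization.mk F v hv)) v hv (φ.apply_symm_apply _)
        rw [rho_apply, h, MulAction.toPerm_apply, Projectivization.matrixSpecialLinearGroup_smul_def,
          Projectivization.smul_mk]
        congr 1
        change _ = (SpecialLinearGroup.transvection hij c : Matrix (Fin n) (Fin n) F) *ᵥ v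
        rw [SpecialLinearGroup.transvection_coe, Matrix.add_mulVec, Matrix.one_mulVec,
          Matrix.single_mulVec_eq, hw, single_dotProduct, one_mul, smul_smul, mul_comm]
    exact ⟨((N.equivMapOfInjective (rho φ) (rho_injective φ)).trans (MulEquiv.subgroupCongr hmap)).trans
      (MonoidHom.ofInjective Matrix.ProjectiveSpecialLinearGroup.toPermHom_injective).symm⟩

end Des

end Cfsg.Lib.Ito
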