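import Cfsg.Agent.Lib.Ito.Centre

/-!
# The elation group of a block: regularity, lines and planes
-/

set_option autoImplicit false
set_option linter.style.haveILetI false
set_option linter.unusedSectionVars false

namespace Cfsg.Lib.Ito

open MulAction

/-- The arithmetical step: `t = 1` and `q = 1`. -/
theorem arith {k l c a m u q : ℕ} (hl : 0 < l) (hm : 0 < m) (hu : 0 < u) (hk : k = c * u + l)
    (ha : a = 1 + k * m) (hc : c = 1 + l * m) (hq : l * (q * a) = c * u * (k - 1)) :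
    u = 1 ∧ q = 1 := by
  subst hk
  have ha' : a = c * (1 + m * u) := by subst hc; nlinarith
  subst ha'
  have hc0 : 0 < c := by omega
  have h1 : c * u + l - 1 = l * (1 + m * u) + (u - 1) := by
    subst hc
    obtain ⟨u', rfl⟩ : ∃ u', u = u' + 1 := ⟨u - 1, by omega⟩
    have : (1 + l * m) * (u' + 1) + l = l * (1 + m * (u' + 1)) + (u' + 1) := by ring
    omega
  rw [h1] at hq
  have h2 : l * q * (1 + m * u) = u * l * (1 + m * u) + u * (u - 1) := by
    apply Nat.eq_of_mul_eq_mul_left hc0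
    linarith
  have hdvd : 1 + m * u ∣ u * (u - 1) :=
    (Nat.dvd_add_right (Dvd.intro_left _ rfl)).1 (h2 ▸ Dvd.intro_left _ rfl)
  have hcop : Nat.Coprime (1 + m * u) u := by
    rw [Nat.coprime_add_mul_right_left]; exact Nat.coprime_one_left u
  have hu1 : u = 1 := by
    rcases Nat.eq_zero_or_pos (u - 1) with h | h
    · omega
    · have := Nat.le_of_dvd h (hcop.dvd_of_dvd_mul_left hdvd)
      have : u ≤ m * u := Nat.le_mul_of_pos_left u hm
      omega
  subst hu1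
  refine ⟨rfl, ?_⟩
  have h3 : l * (1 + m) * q = l * (1 + m) * 1 := by simpa [mul_comm, mul_assoc, mul_left_comm] using h2
  exact Nat.eq_of_mul_eq_mul_left (by positivity) h3

namespace Des

variable {G Ω Λ : Type*} [Group G] [MulAction G Ω] [MulAction G Λ]
variable [Finite G] [Finite Ω] [Finite Λ] [FaithfulSMul G Ω] (M : Des G Ω Λ)

/-- The elations with axis `B` and centre `p`. -/
def U (B : Λ) (p : Ω) : Subgroup G where
  carrier := {t | t ∈ M.T B ∧ ∀ Y, M.I p Y → t • Y = Y}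
  one_mem' := ⟨one_mem _, fun Y _ => one_smul G Y⟩
  mul_mem' := fun {a b} ha hb => ⟨mul_mem ha.1 hb.1, fun Y hY => by rw [mul_smul, hb.2 Y hY, ha.2 Y hY]⟩
  inv_mem' := fun {a} ha => ⟨inv_mem ha.1, fun Y hY => by rw [inv_smul_eq_iff, ha.2 Y hY]⟩

theorem mem_U {B : Λ} {p : Ω} {t : G} : t ∈ M.U B p ↔ t ∈ M.T B ∧ ∀ Y, M.I p Y → t • Y = Y := Iff.rfl

theorem exists_pt (X : Λ) : ∃ p, M.I p X := by
  by_contra h
  push Not at h
  have := M.bl X
  rw [show {x | M.I x X} = ∅ from Set.eq_empty_of_forall_notMem h, Set.ncard_empty] at this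
  have := M.lam_lt
  omega

theorem exists_off (X : Λ) : ∃ x, ¬ M.I x X := by
  by_contra h
  push Not at h
  have h1 := M.compl_card X
  rw [show {x | ¬ M.I x X} = ∅ from Set.eq_empty_of_forall_notMem fun x hx => hx (h x), Set.ncard_empty] at h1
  have := M.k_lt
  omega

/-- The line through two points. -/
def line (x y : Ω) : Set Ω := {z | ∀ Y, M.I x Y → M.I y Y → M.I z Y}

theorem left_mem_line (x y : Ω) : x ∈ M.line x y := fun _ h _ => h

theorem right_mem_line (x y : Ω) : y ∈ M.line x y := fun _ _ h => h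

theorem line_eq {x y z w : Ω} (hxy : x ≠ y) (hz : z ∈ M.line x y) (hw : w ∈ M.line x y) (hzw : z ≠ w) :
    M.line z w = M.line x y := by
  have heq : {Y | M.I x Y ∧ M.I y Y} = {Y | M.I z Y ∧ M.I w Y} :=
    Set.eq_of_subset_of_ncard_le (fun Y hY => ⟨hz Y hY.1 hY.2, hw Y hY.1 hY.2⟩)
      (by rw [M.pt2 x y hxy, M.pt2 z w hzw])
  ext u
  refine ⟨fun hu Y h1 h2 => ?_, fun hu Y h1 h2 => ?_⟩
  · exact hu Y ((Set.ext_iff.1 heq Y).1 ⟨h1, h2⟩).1 ((Set.ext_iff.1 heq Y).1 ⟨h1, h2⟩).2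
  · exact hu Y ((Set.ext_iff.1 heq Y).2 ⟨h1, h2⟩).1 ((Set.ext_iff.1 heq Y).2 ⟨h1, h2⟩).2

theorem line_smul (g : G) (x y : Ω) : (g • ·) '' M.line x y = M.line (g • x) (g • y) := by
  ext z
  constructor
  · rintro ⟨w, hw, rfl⟩ Y h1 h2
    rw [M.inv_iff] at h1 h2 ⊢
    exact hw _ h1 h2
  · intro hz
    refine ⟨g⁻¹ • z, fun Y h1 h2 => ?_, smul_inv_smul g z⟩
    rw [M.inv_iff, inv_inv]
    exact hz _ ((M.smul_iff g x Y).2 h1) ((M.smul_iff g y Y).2 h2)

theorem line_card_le {x y : Ω} (hxy : x ≠ y) :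
    (M.line x y).ncard * (M.k - M.lam) + M.lam ≤ Nat.card Ω := by
  classical
  have : Fintype Ω := Fintype.ofFinite _
  have : Fintype Λ := Fintype.ofFinite _
  have hc := count (fun (z : Ω) (Y : Λ) => z ∈ M.line x y ∧ M.I z Y ∧ ¬ (M.I x Y ∧ M.I y Y))
  rw [sum_two (fun z => z ∈ M.line x y) _ (M.k - M.lam) 0 (fun z hz => ?_) (fun z hz => by simp [hz])] at hc
  · have hle : ∑ Y : Λ, {z | z ∈ M.line x y ∧ M.I z Y ∧ ¬ (M.I x Y ∧ M.I y Y)}.ncard ≤
        ∑ Y : Λ, if M.I x Y ∧ M.I y Y then 0 else 1 := by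
      refine Finset.sum_le_sum fun Y _ => ?_
      split_ifs with h
      · simp [h]
      · refine (Set.ncard_le_one (Set.toFinite _)).2 fun a ha b hb => by_contra fun hne => ?_
        have hl := M.line_eq hxy ha.1 hb.1 hne
        exact h ⟨(hl ▸ M.left_mem_line x y : x ∈ M.line a b) Y ha.2.1 hb.2.1,
          (hl ▸ M.right_mem_line x y : y ∈ M.line a b) Y ha.2.1 hb.2.1⟩
    simp only [mul_zero, add_zero] at hc
    rw [Finset.sum_ite, Finset.sum_const_zero, zero_add, Finset.sum_const, smul_eq_mul, mul_one] at hle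
    change (M.line x y).ncard * _ = _ at hc
    have h2 : (Finset.univ.filter fun Y : Λ => ¬ (M.I x Y ∧ M.I y Y)).card = Nat.card Ω - M.lam := by
      rw [← M.pt2 x y hxy, ← M.card_eq, ← Set.ncard_compl, Set.ncard_eq_toFinset_card']
      congr 1
      ext Y
      simp
    rw [h2] at hle
    have : M.lam ≤ Nat.card Ω := by
      have := M.lam_lt; have := M.k_lt; omega
    omega
  · have hsub : {Y | M.I x Y ∧ M.I y Y} ⊆ {Y | M.I z Y} := fun Y hY => hz Y hY.1 hY.2
    rw [← M.pt z, ← M.pt2 x y hxy, ← Set.ncard_sdiff hsub]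
    congr 1
    ext Y
    simp [hz]

variable (hK : ∃ X, M.K X ≠ ⊥)

include hK

theorem U_T {B : Λ} {p : Ω} {t : G} (h : t ∈ M.U B p) : t ∈ M.T B := h.1

theorem U_unique {B : Λ} {p q : Ω} {t : G} (hp : t ∈ M.U B p) (hq : t ∈ M.U B q) (ht : t ≠ 1) : p = q := by
  obtain ⟨c, -, hc⟩ := M.exists_centre hK hp.1 ht
  exact (M.point_ext fun Y hY => (hc Y).1 (hp.2 Y hY)).trans
    (M.point_ext fun Y hY => (hc Y).1 (hq.2 Y hY)).symm

theorem exists_U {B : Λ} {t : G} (ht : t ∈ M.T B) (ht1 : t ≠ 1) :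
    ∃ p, M.I p B ∧ t ∈ M.U B p ∧ ∀ Y, t • Y = Y → M.I p Y := by
  obtain ⟨c, hcB, hc⟩ := M.exists_centre hK ht ht1
  exact ⟨c, hcB, ⟨ht, fun Y hY => (hc Y).2 hY⟩, fun Y h => (hc Y).1 h⟩

theorem U_fix {B : Λ} {p : Ω} {t : G} (ht : t ∈ M.U B p) (ht1 : t ≠ 1) {Y : Λ} (hY : t • Y = Y) : M.I p Y := by
  obtain ⟨c, -, hcU, hc⟩ := M.exists_U hK ht.1 ht1
  rw [M.U_unique hK ht hcU ht1]
  exact hc Y hY

theorem U_conj (g : G) {B : Λ} {p : Ω} {t : G} (ht : t ∈ M.U B p) : g * t * g⁻¹ ∈ M.U (g • B) (g • p) := by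
  refine ⟨M.T_conj hK g ht.1, fun Y hY => ?_⟩
  rw [M.inv_iff] at hY
  rw [mul_smul, mul_smul, ht.2 _ hY, smul_inv_smul]

theorem U_card_eq {B : Λ} {p q : Ω} (hp : M.I p B) (hq : M.I q B) :
    Nat.card (M.U B p) = Nat.card (M.U B q) := by
  suffices h : ∀ p q, M.I p B → M.I q B → Nat.card (M.U B p) ≤ Nat.card (M.U B q) from
    le_antisymm (h p q hp hq) (h q p hq hp)
  intro p q hp hq
  obtain ⟨g, hgp, hgB⟩ := M.flag p B q B hp hq
  refine Nat.card_le_card_of_injective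
    (fun t => ⟨g * t * g⁻¹, by have := M.U_conj hK g t.2; rwa [hgp, hgB] at this⟩) fun a b h => ?_
  have := congrArg Subtype.val h
  exact Subtype.ext (mul_left_cancel (mul_right_cancel this))

omit hK

/-- The order of the elation group with given axis and centre. -/
noncomputable def h (B : Λ) : ℕ :=
  open Classical in if hB : ∃ p, M.I p B then Nat.card (M.U B hB.choose) else 0

include hK

theorem card_U {B : Λ} {p : Ω} (hp : M.I p B) : Nat.card (M.U B p) = M.h B := by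
  rw [h, dif_pos ⟨p, hp⟩]
  exact M.U_card_eq hK hp (⟨p, hp⟩ : ∃ p, M.I p B).choose_spec

/-- Counting the elements of `T B` with centre in a given set. -/
theorem card_centres (B : Λ) (W : Set Ω) (hW : ∀ p ∈ W, M.I p B) (S : Subgroup G)
    (hS : ∀ t, t ∈ S ↔ t ∈ M.T B ∧ (t = 1 ∨ ∃ p ∈ W, t ∈ M.U B p)) :
    Nat.card S + W.ncard = 1 + W.ncard * M.h B := by
  classical
  have : Fintype Ω := Fintype.ofFinite _
  have : Fintype ↥S := Fintype.ofFinite _
  have hc := count (fun (t : ↥S) (p : Ω) => (t : G) ≠ 1 ∧ p ∈ W ∧ (t : G) ∈ M.U B p)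
  rw [sum_two (fun t : ↥S => t ≠ 1) _ 1 0 (fun t ht => ?_) (fun t ht => ?_),
    sum_two (fun p => p ∈ W) _ (M.h B - 1) 0 (fun p hp => ?_) (fun p hp => by simp [hp])] at hc
  · have h1 : {t : ↥S | t ≠ 1}.ncard = Nat.card ↥S - 1 := by
      have : {t : ↥S | t ≠ 1} = {1}ᶜ := rfl
      rw [this, Set.ncard_compl, Set.ncard_singleton]
    rw [h1] at hc
    simp only [mul_one, mul_zero, add_zero] at hc
    change _ = W.ncard * _ at hc
    rcases W.eq_empty_or_nonempty with hW0 | ⟨p, hp⟩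
    · subst hW0
      have h0 : Nat.card ↥S = 1 := by
        rw [Subgroup.card_eq_one, Subgroup.eq_bot_iff_forall]
        intro t ht
        exact ((hS t).1 ht).2.elim id fun ⟨q, hq, _⟩ => hq.elim
      rw [h0, Set.ncard_empty]
      simp
    have hh : 1 ≤ M.h B := by
      rw [← M.card_U hK (hW p hp)]
      exact Nat.card_pos
    have hS1 : 1 ≤ Nat.card ↥S := Nat.card_pos
    zify [hh, hS1] at hc ⊢
    linarith
  · rw [← M.card_U hK (hW p hp), ← Nat.card_coe_set_eq]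
    have he : Nat.card {t : ↥S | (t : G) ≠ 1 ∧ p ∈ W ∧ (t : G) ∈ M.U B p} =
        Nat.card ↥((M.U B p : Set G) \ {1}) := Nat.card_congr
      { toFun := fun t => ⟨t.1.1, t.2.2.2, t.2.1⟩
        invFun := fun t => ⟨⟨t.1, (hS _).2 ⟨t.2.1.1, Or.inr ⟨p, hp, t.2.1⟩⟩⟩, t.2.2, hp, t.2.1⟩
        left_inv := fun t => rfl
        right_inv := fun t => rfl }
    rw [he, Nat.card_coe_set_eq, Set.ncard_diff_singleton_of_mem (one_mem (M.U B p))]
    rfl
  · have ht' : (t : G) ≠ 1 := fun e => ht (Subtype.ext e)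
    obtain ⟨p, hp, htp⟩ := ((hS t).1 t.2).2.resolve_left ht'
    rw [Set.ncard_eq_one]
    exact ⟨p, Set.ext fun q => ⟨fun hq => M.U_unique hK hq.2.2 htp ht', by rintro rfl; exact ⟨ht', hp, htp⟩⟩⟩
  · push Not at ht
    simp [ht]

theorem card_T_aux (B : Λ) : Nat.card (M.T B) + M.k = 1 + M.k * M.h B := by
  have := M.card_centres hK B {p | M.I p B} (fun p hp => hp) (M.T B) fun t => by
    refine ⟨fun ht => ⟨ht, (em (t = 1)).imp id fun h1 => ?_⟩, fun h => h.1⟩
    obtain ⟨p, hp, hU, -⟩ := M.exists_U hK ht h1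
    exact ⟨p, hp, hU⟩
  rwa [M.bl B] at this

theorem card_stab_aux {B D : Λ} (hne : B ≠ D) :
    Nat.card ↥(M.T B ⊓ stabilizer G D) + M.lam = 1 + M.lam * M.h B := by
  have := M.card_centres hK B {p | M.I p B ∧ M.I p D} (fun p hp => hp.1) (M.T B ⊓ stabilizer G D) fun t => by
    rw [Subgroup.mem_inf, mem_stabilizer_iff]
    refine and_congr_right fun ht => ⟨fun hD => (em (t = 1)).imp id fun h1 => ?_, ?_⟩
    · obtain ⟨p, hp, hU, hfix⟩ := M.exists_U hK ht h1
      exact ⟨p, ⟨hp, hfix D hD⟩, hU⟩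
    · rintro (rfl | ⟨p, hp, hU⟩)
      · exact one_smul G D
      · exact hU.2 D hp.2
  rwa [M.bl2 B D hne] at this

/-- The main numerical consequences. -/
theorem numbers (B : Λ) : 2 ≤ M.h B ∧ Nat.card (M.T B) = Nat.card Ω - M.k ∧
    M.k - 1 = M.lam * M.h B ∧ Nat.card (M.T B) = (M.k - M.lam) * M.h B := by
  classical
  have hlam := M.lam_lt
  have hl := M.lam_pos
  have hv := M.k_lt
  set a := Nat.card (M.T B) with haDef
  have ha1 : 1 < a := Finite.one_lt_card_iff_nontrivial.2 ((Subgroup.nontrivial_iff_ne_bot _).2 (M.T_ne hK B))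
  have hka := M.card_T_aux hK B
  have hh : 2 ≤ M.h B := by
    by_contra h2
    have : M.k * M.h B ≤ M.k * 1 := Nat.mul_le_mul_left _ (by omega)
    omega
  obtain ⟨m, hm⟩ : ∃ m, M.h B = m + 1 := ⟨M.h B - 1, by omega⟩
  obtain ⟨D, hD⟩ : ∃ D : Λ, B ≠ D := by
    by_contra h
    push Not at h
    have : Subsingleton Λ := ⟨fun x y => (h x).symm.trans (h y)⟩
    have := Finite.card_le_one_iff_subsingleton.2 this
    rw [M.card_eq] at this
    omega
  set c := Nat.card ↥(M.T B ⊓ stabilizer G D) with hcDef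
  have hkc := M.card_stab_aux hK hD
  have hca : c ∣ a := Subgroup.card_dvd_of_le inf_le_left
  have haq : a ∣ Nat.card Ω - M.k := by
    rw [← M.compl_card B]
    refine dvd_of_fibres (fun x => orbit ↥(M.T B) x) _ a fun x hx => ?_
    have hst : stabilizer ↥(M.T B) x = ⊥ := (Subgroup.eq_bot_iff_forall _).2 fun t ht =>
      Subtype.ext (M.T_free hK t.2 hx ht)
    have hfib : {y | y ∈ {x | ¬ M.I x B} ∧ orbit ↥(M.T B) y = orbit ↥(M.T B) x} = orbit ↥(M.T B) x := by
      ext y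
      refine ⟨fun hy => hy.2 ▸ mem_orbit_self y, fun hy => ⟨?_, orbit_eq_iff.2 hy⟩⟩
      obtain ⟨t, rfl⟩ := hy
      intro hI
      change M.I ((t : G) • x) B at hI
      have := (M.T_K hK t.2) _ hI
      rw [smul_left_cancel_iff] at this
      exact hx (this ▸ hI)
    rw [hfib, ← index_stabilizer, hst, Subgroup.index_bot]
  obtain ⟨q, hq⟩ := haq
  obtain ⟨n, hn⟩ : ∃ n, M.k = n + M.lam := ⟨M.k - M.lam, by omega⟩
  rw [hm] at hka hkc
  have hc1 : c = 1 + M.lam * m := by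
    rw [Nat.mul_add, Nat.mul_one] at hkc; omega
  have ha2 : a = c + n * m := by
    rw [Nat.mul_add, Nat.mul_one] at hka
    have : M.k * m = n * m + M.lam * m := by rw [hn]; ring
    omega
  have hcn : c ∣ n := by
    have : c ∣ n * m := (Nat.dvd_add_right dvd_rfl).1 (ha2 ▸ hca)
    refine Nat.Coprime.dvd_of_dvd_mul_right ?_ this
    rw [hc1, Nat.coprime_add_mul_right_left]
    exact Nat.coprime_one_left m
  obtain ⟨u, hu⟩ := hcn
  have hu0 : 0 < u := by
    rcases Nat.eq_zero_or_pos u with rfl | h'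
    · rw [Nat.mul_zero] at hu; omega
    · exact h'
  have hfl := M.count_flags
  have hq' : M.lam * (q * a) = c * u * (M.k - 1) := by
    rw [Nat.mul_comm q a, ← hq, ← hu]
    zify [show M.k ≤ Nat.card Ω by omega, show 1 ≤ M.k by omega, show 1 ≤ Nat.card Ω by omega] at hfl ⊢
    have hn' : (M.k : ℤ) = n + M.lam := by exact_mod_cast hn
    rw [hn'] at hfl ⊢
    linear_combination hfl
  have hka' : a = 1 + M.k * m := by
    rw [Nat.mul_add, Nat.mul_one] at hka
    omega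
  obtain ⟨hu1, hq1⟩ := arith hl (show 0 < m by omega) hu0 (hu ▸ hn) hka' hc1 hq'
  subst hu1 hq1
  rw [Nat.mul_one] at hu hq
  refine ⟨hh, hq.symm, ?_, ?_⟩
  · rw [hm, Nat.mul_add, Nat.mul_one]; omega
  · rw [show M.k - M.lam = c by omega, hm, ha2, hu]; ring

/-- The elation group is transitive off its axis. -/
theorem T_transitive {B : Λ} {x y : Ω} (hx : ¬ M.I x B) (hy : ¬ M.I y B) : ∃ t ∈ M.T B, t • x = y := by
  classical
  have hsub : Set.range (fun t : ↥(M.T B) => (t : G) • x) ⊆ {y | ¬ M.I y B} := by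
    rintro _ ⟨t, rfl⟩ hI
    have := (M.T_K hK t.2) _ hI
    rw [smul_left_cancel_iff] at this
    exact hx (this ▸ hI)
  have hinj : Function.Injective (fun t : ↥(M.T B) => (t : G) • x) := fun a b hab => by
    have : (b⁻¹ * a : ↥(M.T B)).1 • x = x := by
      change ((b : G)⁻¹ * a) • x = x
      rw [mul_smul, inv_smul_eq_iff]
      exact hab
    exact (inv_mul_eq_one.1 (Subtype.ext (M.T_free hK (b⁻¹ * a).2 hx this))).symm
  have heq := Set.eq_of_subset_of_ncard_le hsub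
    (by rw [Set.ncard_range_of_injective hinj, M.compl_card, (M.numbers hK B).2.1])
  obtain ⟨t, ht⟩ := (heq.symm ▸ hy : y ∈ Set.range (fun t : ↥(M.T B) => (t : G) • x))
  exact ⟨t, t.2, ht⟩

/-- The line through a point of `B` and a point off it. -/
theorem line_point {B : Λ} {p x : Ω} (hp : M.I p B) (hx : ¬ M.I x B) :
    M.line p x = insert p ((fun t => t • x) '' (M.U B p : Set G)) ∧ (M.line p x).ncard = M.h B + 1 := by
  have hsub : insert p ((fun t => t • x) '' (M.U B p : Set G)) ⊆ M.line p x := by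
    intro z hz
    rcases Set.mem_insert_iff.1 hz with rfl | ⟨t, ht, rfl⟩
    · exact M.left_mem_line z x
    · intro Y h1 h2
      rw [← ht.2 Y h1]
      exact (M.smul_iff t x Y).2 h2
  have hcard : (insert p ((fun t => t • x) '' (M.U B p : Set G))).ncard = M.h B + 1 := by
    rw [Set.ncard_insert_of_notMem, Set.ncard_image_of_injOn, ← M.card_U hK hp, ← Nat.card_coe_set_eq]
    · rfl
    · intro a ha b hb hab
      have : (b⁻¹ * a) • x = x := by
        rw [mul_smul, inv_smul_eq_iff]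
        exact hab
      exact (inv_mul_eq_one.1 (M.T_free hK (mul_mem (inv_mem hb.1) ha.1) hx this)).symm
    · rintro ⟨t, ht, rfl⟩
      have := (M.T_K hK ht.1) _ hp
      rw [smul_left_cancel_iff] at this
      exact hx (this ▸ hp)
  have hle := M.line_card_le (fun e => hx (e ▸ hp) : p ≠ x)
  have heq : insert p ((fun t => t • x) '' (M.U B p : Set G)) = M.line p x := by
    refine Set.eq_of_subset_of_ncard_le hsub ?_
    rw [hcard]
    obtain ⟨h2, hT, hk, hT'⟩ := M.numbers hK B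
    by_contra hlt
    have h3 : (M.h B + 2) * (M.k - M.lam) ≤ (M.line p x).ncard * (M.k - M.lam) :=
      Nat.mul_le_mul_right _ (by omega)
    rw [Nat.add_mul, Nat.mul_comm (M.h B), ← hT', hT] at h3
    have := M.k_lt
    have := M.k_sub_pos
    omega
  exact ⟨heq.symm, heq ▸ hcard⟩

/-- A line through two points of an axis has the standard size. -/
theorem line_card {B : Λ} {p q : Ω} (hpq : p ≠ q) : (M.line p q).ncard = M.h B + 1 := by
  obtain ⟨r, hr⟩ := M.exists_pt B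
  obtain ⟨x, hx⟩ := M.exists_off B
  obtain ⟨g, hg1, hg2⟩ := M.tt r x p q (fun e => hx (e ▸ hr)) hpq
  rw [← hg1, ← hg2, ← M.line_smul, Set.ncard_image_of_injective _ (MulAction.injective g)]
  exact (M.line_point hK hr hx).2

theorem U_normal {B : Λ} {p : Ω} (hp : M.I p B) {t u : G} (ht : t ∈ M.T B) (hu : u ∈ M.U B p) :
    t * u * t⁻¹ ∈ M.U B p := by
  have := M.U_conj hK t hu
  rwa [M.K_fix (M.T_K hK ht), M.T_K hK ht p hp] at this

theorem U_comm_ne {B : Λ} {p q : Ω} (hp : M.I p B) (hq : M.I q B) (hne : p ≠ q) {u w : G}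
    (hu : u ∈ M.U B p) (hw : w ∈ M.U B q) : u * w = w * u := by
  have h1 : u * w * u⁻¹ * w⁻¹ ∈ M.U B q := mul_mem (M.U_normal hK hq hu.1 hw) (inv_mem hw)
  have h2 : u * w * u⁻¹ * w⁻¹ ∈ M.U B p := by
    rw [show u * w * u⁻¹ * w⁻¹ = u * (w * u⁻¹ * w⁻¹) by group]
    exact mul_mem hu (M.U_normal hK hp hw.1 (inv_mem hu))
  by_contra h
  refine hne (M.U_unique hK h2 h1 fun e => h ?_)
  rwa [mul_inv_eq_one, mul_inv_eq_iff_eq_mul] at e

/-- The elation group of a block is abelian. -/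
theorem T_comm {B : Λ} {s t : G} (hs : s ∈ M.T B) (ht : t ∈ M.T B) : s * t = t * s := by
  by_cases hs1 : s = 1
  · simp [hs1]
  by_cases ht1 : t = 1
  · simp [ht1]
  obtain ⟨p, hp, hsp, -⟩ := M.exists_U hK hs hs1
  obtain ⟨q, hq, htq, -⟩ := M.exists_U hK ht ht1
  by_cases hne : p = q
  swap
  · exact M.U_comm_ne hK hp hq hne hsp htq
  subst hne
  obtain ⟨r, hr, hrp⟩ : ∃ r, M.I r B ∧ r ≠ p := by
    have : 1 < {x | M.I x B}.ncard := by
      rw [M.bl]; have := M.lam_pos; have := M.lam_lt; omega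
    obtain ⟨r, hr, hne⟩ := Set.exists_ne_of_one_lt_ncard this p
    exact ⟨r, hr, hne⟩
  obtain ⟨⟨w, hw⟩, hw1'⟩ := Subgroup.ne_bot_iff_exists_ne_one.1 (by
    intro e
    have := M.card_U hK hr
    rw [e, Subgroup.card_bot] at this
    have := (M.numbers hK B).1
    omega : M.U B r ≠ ⊥)
  have hw1 : w ≠ 1 := fun e => hw1' (Subtype.ext e)
  have htw1 : t * w ≠ 1 := fun e => hrp (M.U_unique hK hw
    (show (w : G) ∈ M.U B p from eq_inv_of_mul_eq_one_right e ▸ inv_mem htq) hw1)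
  obtain ⟨r', hr', hU', -⟩ := M.exists_U hK (mul_mem ht hw.1) htw1
  have hne' : r' ≠ p := fun e => hrp (M.U_unique hK hw (by
    have := mul_mem (inv_mem htq) (e ▸ hU')
    rwa [inv_mul_cancel_left] at this) hw1)
  have h1 := M.U_comm_ne hK hp hr' (Ne.symm hne') hsp hU'
  have h2 := M.U_comm_ne hK hp hr (Ne.symm hrp) hsp hw
  refine mul_right_cancel (b := (w : G)) ?_
  rw [mul_assoc, h1, mul_assoc t s, h2]
  group

/-- Elations with centres on a line of the axis form the product of two of the groups. -/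
theorem plane {B : Λ} {p q r : Ω} (hp : M.I p B) (hq : M.I q B) (hpq : p ≠ q) :
    (r ∈ M.line p q → ∀ u ∈ M.U B r, ∃ a ∈ M.U B p, ∃ b ∈ M.U B q, u = a * b) ∧
    (∀ a ∈ M.U B p, ∀ b ∈ M.U B q, a * b ≠ 1 → a * b ∈ M.U B r → r ∈ M.line p q) := by
  classical
  have hlineB : ∀ z ∈ M.line p q, M.I z B := fun z hz => hz B hp hq
  set S : Subgroup G := M.T B ⊓ ⨅ Y ∈ {Y | M.I p Y ∧ M.I q Y}, stabilizer G Y with hSdef
  have hS : ∀ t, t ∈ S ↔ t ∈ M.T B ∧ (t = 1 ∨ ∃ z ∈ M.line p q, t ∈ M.U B z) := fun t => by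
    simp only [hSdef, Subgroup.mem_inf, Subgroup.mem_iInf, mem_stabilizer_iff]
    refine and_congr_right fun ht => ⟨fun hfix => (em (t = 1)).imp id fun h1 => ?_, ?_⟩
    · obtain ⟨z, -, hU, hz⟩ := M.exists_U hK ht h1
      exact ⟨z, fun Y h1 h2 => hz Y (hfix Y ⟨h1, h2⟩), hU⟩
    · rintro (rfl | ⟨z, hz, hU⟩) Y hY
      · exact one_smul G Y
      · exact hU.2 Y (hz Y hY.1 hY.2)
  have hcard := M.card_centres hK B (M.line p q) hlineB S hS
  rw [M.line_card hK (B := B) hpq] at hcard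
  have hprod : ∀ a ∈ M.U B p, ∀ b ∈ M.U B q, a * b ∈ S := fun a ha b hb => by
    simp only [hSdef, Subgroup.mem_inf, Subgroup.mem_iInf, mem_stabilizer_iff]
    exact ⟨mul_mem ha.1 hb.1, fun Y hY => by rw [mul_smul, hb.2 Y hY.2, ha.2 Y hY.1]⟩
  constructor
  · intro hr u hu
    set f : ↥(M.U B p) × ↥(M.U B q) → ↥S := fun z => ⟨(z.1 : G) * z.2, hprod _ z.1.2 _ z.2.2⟩ with hf
    have hinj : Function.Injective f := by
      rintro ⟨a, b⟩ ⟨a', b'⟩ hab
      have e : (a : G) * b = a' * b' := congrArg Subtype.val hab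
      have e2 : (a' : G)⁻¹ * a = b' * (b : G)⁻¹ := by
        rw [eq_mul_inv_iff_mul_eq, mul_assoc, e, inv_mul_cancel_left]
      have : (a' : G)⁻¹ * a = 1 := by
        by_contra h1
        exact hpq (M.U_unique hK (mul_mem (inv_mem a'.2) a.2) (e2 ▸ mul_mem b'.2 (inv_mem b.2)) h1)
      obtain rfl : a = a' := Subtype.ext (inv_mul_eq_one.1 this).symm
      simp only [mul_right_inj] at e
      rw [Subtype.ext e]
    have hbij : Function.Bijective f := by
      refine (Nat.bijective_iff_injective_and_card f).2 ⟨hinj, ?_⟩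
      rw [Nat.card_prod, M.card_U hK hp, M.card_U hK hq]
      have h2 := (M.numbers hK B).1
      zify at hcard ⊢
      linarith
    obtain ⟨⟨a, b⟩, hab⟩ := hbij.2 ⟨u, (hS u).2 ⟨hu.1, Or.inr ⟨r, hr, hu⟩⟩⟩
    exact ⟨a, a.2, b, b.2, (congrArg Subtype.val hab).symm⟩
  · intro a ha b hb h1 hU
    obtain ⟨z, hz, hUz⟩ := ((hS _).1 (hprod a ha b hb)).2.resolve_left h1
    rw [M.U_unique hK hU hUz h1]
    exact hz

end Des

end Cfsg.Lib.Ito
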